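import Groth.Agent.Lib.Koszul.Stable.Iso
import Groth.Agent.Lib.LocalCoh.Torsion
import Groth.Agent.Lib.LocalCoh.Resolution
import Groth.Prelude.Def_Wider

/-!
# Local cohomology as a colimit of Koszul cohomology over a Noetherian ring
-/

universe u

open CategoryTheory CategoryTheory.Limits

namespace Groth.Agent.Lib.Koszul.Stable.LC

open Groth.Agent.Lib (LocalCoh.lcDeltaSeq LocalCoh.lcZeroIso)

variable {A : Type u} [CommRing A] (fs : List A)

/-- The ideal of the list. -/
abbrev idl : Ideal A := Ideal.span {a | a ∈ fs}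

theorem mem_torsionSub_iff (fs : List A) {M : Type u} [AddCommGroup M] [Module A M] (x : M) :
    x ∈ DRing.torsionSub (idl fs) M ↔ x ∈ KLim.gamma fs M := by
  constructor
  · rintro ⟨n, hn⟩ f hf
    exact ⟨n, hn _ (Ideal.pow_mem_pow (Ideal.subset_span (show f ∈ {a | a ∈ fs} from hf)) n)⟩
  · intro hx
    let J : Ideal A := LinearMap.ker (LinearMap.toSpanSingleton A M x)
    have hle : idl fs ≤ J.radical := Ideal.span_le.2 fun f hf => by
      obtain ⟨k, hk⟩ := hx f hf
      exact ⟨k, hk⟩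
    obtain ⟨n, hn⟩ := Ideal.exists_pow_le_of_le_radical_of_fg hle
      (Submodule.fg_span fs.finite_toSet : (Submodule.span A {a | a ∈ fs}).FG)
    exact ⟨n, fun a ha => hn ha⟩

variable [IsNoetherianRing A]

theorem subsingleton_pi {κ : Type u} [Fintype κ] (W : κ → Type u) [∀ j, AddCommGroup (W j)]
    [∀ j, Module A (W j)] (I : Ideal A) (i : ℕ)
    (h : ∀ j, Subsingleton ((localCohomology I i).obj (ModuleCat.of A (W j)))) :
    Subsingleton ((localCohomology I i).obj (ModuleCat.of A (∀ j, W j))) := by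
  classical
  suffices h : ∀ z : (localCohomology I i).obj (ModuleCat.of A (∀ j, W j)), z = 0 from
    ⟨fun a b => (h a).trans (h b).symm⟩
  intro z
  have hid : ∑ j, ModuleCat.ofHom (LinearMap.proj j : (∀ j, W j) →ₗ[A] W j) ≫
      ModuleCat.ofHom (LinearMap.single A W j) = 𝟙 (ModuleCat.of A (∀ j, W j)) := by
    refine ModuleCat.hom_ext (LinearMap.ext fun x => ?_)
    rw [ModuleCat.hom_sum, LinearMap.sum_apply]
    exact Finset.univ_sum_single x
  have e := congrArg (fun φ => ((localCohomology I i).map φ).hom z) hid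
  simp only [Functor.map_sum, CategoryTheory.Functor.map_id, Functor.map_comp, ModuleCat.hom_sum,
    LinearMap.sum_apply, ModuleCat.hom_id, LinearMap.id_apply] at e
  rw [← e]
  refine Finset.sum_eq_zero fun j _ => ?_
  show ((localCohomology I i).map _).hom (((localCohomology I i).map _).hom z) = 0
  rw [@Subsingleton.elim _ (h j) (((localCohomology I i).map _).hom z) 0, map_zero]

theorem nonempty_equiv : ∀ (i : ℕ) (M : Type u) [AddCommGroup M] [Module A M],
    Nonempty (LocCoh.H (idl fs) i M ≃ₗ[A] CohIII.koszulHLim fs (ModuleCat.of A M) i)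
  | 0, M, _, _ => by
    have e := ((LocalCoh.lcZeroIso (idl fs)).app (ModuleCat.of A M)).toLinearEquiv
    exact ⟨e ≪≫ₗ LinearEquiv.ofEq (DRing.torsionSub (idl fs) M) (KLim.gamma fs M)
      (Submodule.ext fun x => mem_torsionSub_iff fs x) ≪≫ₗ
      (KLim.gammaEquiv fs (ModuleCat.of A M)).symm⟩
  | i + 1, M, _, _ => by
    let G := KLim.gamma fs M
    have hGK : ∀ x : G, x ∈ KLim.gamma fs G := fun x f hf => by
      obtain ⟨k, hk⟩ := x.2 f hf
      exact ⟨k, Subtype.ext hk⟩
    have hG : LocCoh.IsPowerTorsion (idl fs) G := fun x => (mem_torsionSub_iff fs x).2 (hGK x)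
    let S₁ : ShortComplex (ModuleCat.{u} A) := ShortComplex.mk (ModuleCat.ofHom G.subtype)
      (ModuleCat.ofHom G.mkQ) (ModuleCat.hom_ext (LinearMap.exact_subtype_mkQ G).linearMap_comp_eq_zero)
    have hS₁ : S₁.ShortExact :=
      { exact := (ShortComplex.ShortExact.moduleCat_exact_iff_function_exact _).2
          (LinearMap.exact_subtype_mkQ G)
        mono_f := (ModuleCat.mono_iff_injective _).2 G.injective_subtype
        epi_g := (ModuleCat.epi_iff_surjective _).2 G.mkQ_surjective }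
    have hG1 : ∀ j, Subsingleton ((localCohomology (idl fs) (j + 1)).obj S₁.X₁) := fun j =>
      Groth.Agent.Lib.LocalCoh.lc_subsingleton_of_isPowerTorsion (idl fs) j S₁.X₁ hG
    obtain ⟨b⟩ := KLim.nonempty_equiv_of_left_vanish fs hS₁ (i + 1)
      (KLim.subsingleton_of_torsion fs hGK (Nat.succ_ne_zero _))
      (KLim.subsingleton_of_torsion fs hGK (Nat.succ_ne_zero _))
    let a : LocCoh.H (idl fs) (i + 1) M ≃ₗ[A] LocCoh.H (idl fs) (i + 1) (M ⧸ G) :=
      LinearEquiv.ofBijective ((localCohomology (idl fs) (i + 1)).map S₁.g).hom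
        ⟨(injective_iff_map_eq_zero _).2 fun x hx => by
          obtain ⟨y, rfl⟩ := ((LocalCoh.lcDeltaSeq (idl fs)).exact₂ hS₁ (i + 1) x).1 hx
          rw [@Subsingleton.elim _ (hG1 i) y 0, map_zero],
        fun x => ((LocalCoh.lcDeltaSeq (idl fs)).exact₃ hS₁ (i + 1) x).1
          (@Subsingleton.elim _ (hG1 (i + 1)) _ _)⟩
    let t : ULift.{u} (Fin fs.length) → A := fun j => fs.get j.down
    let ε : (M ⧸ G) →ₗ[A] ∀ j, Cech.L (t j) (M ⧸ G) := LinearMap.pi fun j => Cech.mk (t j) (M ⧸ G)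
    have hε : Function.Injective ε := by
      rw [injective_iff_map_eq_zero]
      intro y hy
      obtain ⟨x, rfl⟩ := G.mkQ_surjective y
      refine (Submodule.Quotient.mk_eq_zero G).2 (Iso.exists_pow_of_mem fs fun f hf => ?_)
      obtain ⟨j, rfl⟩ := List.mem_iff_get.1 hf
      obtain ⟨⟨_, k, rfl⟩, hk⟩ :=
        (IsLocalizedModule.eq_zero_iff (Submonoid.powers (t ⟨j⟩)) (Cech.mk (t ⟨j⟩) (M ⧸ G))).1
          (congr_fun hy ⟨j⟩)
      exact ⟨k, (Submodule.Quotient.mk_eq_zero G).1 hk⟩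
    have hu : ∀ j, IsUnit (algebraMap A (Module.End A (Cech.L (t j) (M ⧸ G))) (t j)) := fun j =>
      Cech.isUnit_self (t j)
    have hmem : ∀ j, t j ∈ fs := fun j => List.get_mem _ _
    let S₂ : ShortComplex (ModuleCat.{u} A) := ShortComplex.mk (ModuleCat.ofHom ε)
      (ModuleCat.ofHom (LinearMap.range ε).mkQ)
      (ModuleCat.hom_ext (LinearMap.exact_map_mkQ_range ε).linearMap_comp_eq_zero)
    have hS₂ : S₂.ShortExact :=
      { exact := (ShortComplex.ShortExact.moduleCat_exact_iff_function_exact _).2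
          (LinearMap.exact_map_mkQ_range ε)
        mono_f := (ModuleCat.mono_iff_injective _).2 hε
        epi_g := (ModuleCat.epi_iff_surjective _).2 (LinearMap.range ε).mkQ_surjective }
    have h2 : ∀ j, Subsingleton ((localCohomology (idl fs) j).obj S₂.X₂) := fun j =>
      subsingleton_pi (fun k => Cech.L (t k) (M ⧸ G)) (idl fs) j fun k =>
        Groth.Agent.Lib.LocalCoh.lc_subsingleton_of_smul_bijective (idl fs) j _
          (Ideal.subset_span (hmem k)) ((Module.End.isUnit_iff _).1 (hu k))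
    let c : LocCoh.H (idl fs) i ((∀ j, Cech.L (t j) (M ⧸ G)) ⧸ LinearMap.range ε) ≃ₗ[A]
        LocCoh.H (idl fs) (i + 1) (M ⧸ G) :=
      LinearEquiv.ofBijective ((LocalCoh.lcDeltaSeq (idl fs)).δ hS₂ i).hom
        ⟨(injective_iff_map_eq_zero _).2 fun x hx => by
          obtain ⟨y, rfl⟩ := ((LocalCoh.lcDeltaSeq (idl fs)).exact₃ hS₂ i x).1 hx
          rw [@Subsingleton.elim _ (h2 i) y 0, map_zero],
        fun x => ((LocalCoh.lcDeltaSeq (idl fs)).exact₁ hS₂ i x).1
          (@Subsingleton.elim _ (h2 (i + 1)) _ _)⟩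
    obtain ⟨d⟩ := KLim.nonempty_equiv_of_middle_vanish fs hS₂ i fun q n =>
      KLim.subsingleton_level_pi (fun k => Cech.L (t k) (M ⧸ G)) _ _ fun k =>
        KLim.subsingleton_level_of_bijective _ (List.mem_map.2 ⟨t k, hmem k, rfl⟩)
          ((Module.End.isUnit_iff (algebraMap A (Module.End A (Cech.L (t k) (M ⧸ G))) (t k ^ n))).1
            (by rw [map_pow]; exact (hu k).pow n)) _
    obtain ⟨e⟩ := nonempty_equiv i ((∀ j, Cech.L (t j) (M ⧸ G)) ⧸ LinearMap.range ε)
    exact ⟨a ≪≫ₗ c.symm ≪≫ₗ e ≪≫ₗ d ≪≫ₗ b.symm⟩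

end Groth.Agent.Lib.Koszul.Stable.LC
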