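import Groth.Agent.Lib.Koszul.Stable.KLim
import Groth.Agent.Lib.Koszul.Basic
import Mathlib.RingTheory.Regular.RegularSequence

/-!
# The top degree of the Koszul complex
-/

universe u

open CategoryTheory CategoryTheory.Limits CochainComplex

namespace Groth.Agent.Lib.Koszul.Stable.Top

open Groth.Agent.Lib.FlatCx Groth.Agent.Lib.Koszul.Cone Groth.Agent.Lib.Koszul.Stable.Cx

variable {A : Type u} [CommRing A] (M : ModuleCat.{u} A)

theorem subsingleton_X_of_pos :
    ∀ (l : List A) (i : ℤ), 0 < i → Subsingleton ((CohIII.koszulCx M l).X i)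
  | [], _, hi => subsingleton_base M hi.ne'
  | f :: l, i, hi => ⟨fun x y =>
      ext (f • 𝟙 (CohIII.koszulCx M l)) (rfl : i + 1 = i + 1)
        (@Subsingleton.elim _ (subsingleton_X_of_pos l (i + 1) (by omega)) _ _)
        (@Subsingleton.elim _ (subsingleton_X_of_pos l i hi) _ _)⟩

/-- The top coordinate. -/
noncomputable def top : ∀ l : List A, M →ₗ[A] (CohIII.koszulCx M l).X 0
  | [] => (base M).symm.toLinearMap
  | f :: l => cmk (f • 𝟙 (CohIII.koszulCx M l)) 0 (0 + 1) rfl ∘ₗ LinearMap.prod 0 (top l)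

theorem top_cons (f : A) (l : List A) (m : M) :
    top M (f :: l) m = cmk (f • 𝟙 (CohIII.koszulCx M l)) 0 (0 + 1) rfl (0, top M l m) := rfl

theorem top_bijective : ∀ l : List A, Function.Bijective (top M l)
  | [] => (base M).symm.bijective
  | f :: l => by
    refine ⟨fun x y h => (top_bijective l).1 ?_, fun z => ?_⟩
    · have := congrArg (csnd (f • 𝟙 (CohIII.koszulCx M l)) 0) h
      rwa [top_cons, top_cons, csnd_cmk, csnd_cmk] at this
    · induction z using cases_cmk with
      | h a b =>
        obtain ⟨m, rfl⟩ := (top_bijective l).2 b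
        obtain rfl : a = 0 := @Subsingleton.elim _ (subsingleton_X_of_pos M l (0 + 1) (by omega)) _ _
        exact ⟨m, top_cons M f l m⟩

theorem top_trans (n m : ℕ) (h : n ≤ m) :
    ∀ (l : List A) (x : M),
      (CohIII.koszulTrans M n m h l).f 0 (top M (l.map (· ^ n)) x) =
        top M (l.map (· ^ m)) ((l.map (· ^ (m - n))).prod • x)
  | [], x => by
    show top M [] x = top M [] ((1 : A) • x)
    rw [one_smul]
  | f :: l, x => by
    show (CohIII.koszulTrans M n m h (f :: l)).f 0 (cmk (f ^ n • 𝟙 _) 0 (0 + 1) rfl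
      (0, top M (l.map (· ^ n)) x)) = top M (f ^ m :: l.map (· ^ m)) _
    rw [trans_cmk, map_zero, top_trans n m h l, ← map_smul, top_cons]
    exact congrArg (fun y => cmk (f ^ m • 𝟙 (CohIII.koszulCx M (l.map (· ^ m)))) 0 (0 + 1) rfl
      ((0 : (CohIII.koszulCx M (l.map (· ^ m))).X (0 + 1)), top M (l.map (· ^ m)) y)) (mul_smul _ _ x).symm

theorem exists_d_eq_iff : ∀ (l : List A) (x : M),
    (∃ y, (CohIII.koszulCx M l).d (-1) 0 y = top M l x) ↔ x ∈ Ideal.ofList l • (⊤ : Submodule A M)
  | [], x => by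
    rw [Ideal.ofList_nil, Submodule.bot_smul, Submodule.mem_bot]
    constructor
    · rintro ⟨y, hy⟩
      obtain rfl : y = 0 := @Subsingleton.elim _ (subsingleton_base M (by omega)) _ _
      exact (top_bijective M []).1 (hy.symm.trans ((map_zero _).trans (map_zero _).symm))
    · rintro rfl
      exact ⟨0, (map_zero _).trans (map_zero (top M [])).symm⟩
  | f :: l, x => by
    rw [Ideal.ofList_cons, Submodule.sup_smul, Submodule.mem_sup, Submodule.ideal_span_singleton_smul]
    constructor
    · rintro ⟨y, hy⟩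
      obtain ⟨⟨a, b⟩, rfl⟩ := cmk_surjective (f • 𝟙 (CohIII.koszulCx M l)) (-1) 0 (by omega) y
      obtain ⟨a', rfl⟩ := (top_bijective M l).2 a
      have hy' := congrArg (csnd (f • 𝟙 (CohIII.koszulCx M l)) 0)
        ((d_cmk _ (-1) 0 (0 + 1) (by omega) rfl _ b).symm.trans hy)
      rw [top_cons, csnd_cmk, csnd_cmk, map_smul_id, ← map_smul] at hy'
      refine ⟨f • a', (Submodule.mem_smul_pointwise_iff_exists _ _ _).2 ⟨a', Submodule.mem_top, rfl⟩,
        x - f • a', (exists_d_eq_iff l _).1 ⟨b, ?_⟩, add_sub_cancel _ _⟩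
      show (CohIII.koszulCx M l).d (-1) 0 b = _
      rw [map_sub]
      exact eq_sub_of_add_eq' hy'
    · rintro ⟨u, hu, v, hv, rfl⟩
      obtain ⟨a', -, rfl⟩ := (Submodule.mem_smul_pointwise_iff_exists _ _ _).1 hu
      obtain ⟨b, hb⟩ := (exists_d_eq_iff l v).2 hv
      refine ⟨cmk (f • 𝟙 (CohIII.koszulCx M l)) (-1) 0 (by omega) (top M l a', b), ?_⟩
      refine (d_cmk _ (-1) 0 (0 + 1) (by omega) rfl _ b).trans ?_
      rw [top_cons, map_smul_id, hb, ← map_smul, ← map_add,
        @Subsingleton.elim _ (subsingleton_X_of_pos M l (0 + 1) (by omega))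
          (-(CohIII.koszulCx M l).d 0 (0 + 1) (top M l a')) 0]

/-- The class of an element in top degree. -/
noncomputable def topCls (l : List A) : M →ₗ[A] (CohIII.koszulCx M l).homology 0 :=
  Elem.cls (next_up 0) ∘ₗ (top M l).codRestrict _ fun _ =>
    @Subsingleton.elim _ (subsingleton_X_of_pos M l (0 + 1) (by omega)) _ _

theorem topCls_surjective (l : List A) : Function.Surjective (topCls M l) := fun h => by
  obtain ⟨⟨z, hz⟩, rfl⟩ := Elem.cls_surjective (next_up 0) h
  obtain ⟨m, rfl⟩ := (top_bijective M l).2 z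
  exact ⟨m, rfl⟩

theorem topCls_eq_zero_iff (l : List A) (x : M) :
    topCls M l x = 0 ↔ x ∈ Ideal.ofList l • (⊤ : Submodule A M) :=
  (Elem.cls_eq_zero_iff ((ComplexShape.up ℤ).prev_eq' (show (ComplexShape.up ℤ).Rel (-1) 0 by simp))
    (next_up 0) _).trans (exists_d_eq_iff M l x)

/-- The class of an element in top degree, for an index equal to zero. -/
noncomputable def topClsAt (l : List A) (i : ℤ) (hi : i = 0) :
    M →ₗ[A] (CohIII.koszulCx M l).homology i :=
  hi ▸ topCls M l

theorem topClsAt_surjective (l : List A) (i : ℤ) (hi : i = 0) :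
    Function.Surjective (topClsAt M l i hi) := by
  subst hi
  exact topCls_surjective M l

theorem topClsAt_eq_zero_iff (l : List A) (i : ℤ) (hi : i = 0) (x : M) :
    topClsAt M l i hi x = 0 ↔ x ∈ Ideal.ofList l • (⊤ : Submodule A M) := by
  subst hi
  exact topCls_eq_zero_iff M l x

theorem topClsAt_trans (n m : ℕ) (h : n ≤ m) (l : List A) (i : ℤ) (hi : i = 0) (x : M) :
    HomologicalComplex.homologyMap (CohIII.koszulTrans M n m h l) i
        (topClsAt M (l.map (· ^ n)) i hi x) =
      topClsAt M (l.map (· ^ m)) i hi ((l.map (· ^ (m - n))).prod • x) := by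
  subst hi
  exact Elem.homologyMap_cls _ (next_up 0) _ _ (top_trans M n m h l x)

theorem subsingleton_homology_of_pos (l : List A) (i : ℤ) (hi : 0 < i) :
    Subsingleton ((CohIII.koszulCx M l).homology i) := by
  have := subsingleton_X_of_pos M l i hi
  suffices h : ∀ z : (CohIII.koszulCx M l).homology i, z = 0 from ⟨fun a b => by rw [h a, h b]⟩
  intro z
  obtain ⟨w, rfl⟩ := Elem.cls_surjective (next_up i) z
  rw [show w = 0 from Subtype.ext (Subsingleton.elim _ _), map_zero]

theorem subsingleton_homology_of_weaklyRegular (l : List A)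
    (h : RingTheory.Sequence.IsWeaklyRegular M l) (i : ℤ) (hi : i ≠ 0) :
    Subsingleton ((CohIII.koszulCx M l).homology i) :=
  have := ModuleCat.isZero_iff_subsingleton.1 (Basic.isZero_of_weaklyRegular M l h i hi)
  (Basic.cxHomologyIso M l i).toLinearEquiv.injective.subsingleton

end Groth.Agent.Lib.Koszul.Stable.Top
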