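import Groth.Agent.Lib.Koszul.Stable.Iso
import Mathlib.Algebra.Module.LocalizedModule.Away

/-!
# Independence of the ring
-/

universe u

open CategoryTheory CategoryTheory.Limits

namespace Groth.Agent.Lib.Koszul.Stable.BaseChange

open Groth.Agent.Lib.FlatCx

variable {A B : Type u} [CommRing A] [CommRing B] [Algebra A B]
  {N : Type u} [AddCommGroup N] [Module B N] [Module A N] [IsScalarTower A B N]

/-- The `A`-module structure on a localisation over `B`. -/
def LB (b : B) (N : Type u) [AddCommGroup N] [Module B N] (A : Type u) : Type u := Cech.L b N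

noncomputable instance (b : B) : AddCommGroup (LB b N A) := inferInstanceAs (AddCommGroup (Cech.L b N))

noncomputable instance (b : B) : Module A (LB b N A) := Module.compHom (Cech.L b N) (algebraMap A B)

omit [Module A N] [IsScalarTower A B N] in
theorem smul_LB (b : B) (a : A) (x : LB b N A) :
    a • x = ((algebraMap A B a) • (show Cech.L b N from x) : Cech.L b N) := rfl

/-- The canonical map. -/
noncomputable def mkB (b : B) : N →ₗ[A] LB b N A where
  toFun := Cech.mk b N
  map_add' := map_add (Cech.mk b N)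
  map_smul' a x := by
    show Cech.mk b N (a • x) = algebraMap A B a • Cech.mk b N x
    rw [← algebraMap_smul B a x, map_smul]

theorem isLocalizedModule {a : A} {b : B} (h : algebraMap A B a = b) :
    IsLocalizedModule (Submonoid.powers a) (mkB (N := N) b : N →ₗ[A] LB b N A) := by
  subst h
  have hb := (Module.End.isUnit_iff _).1 (Cech.isUnit_self (M := N) (algebraMap A B a))
  refine IsLocalizedModule.Away.mk_of_addCommGroup ((Module.End.isUnit_iff _).2 hb) (fun y => ?_)
    fun x hx => ?_
  · obtain ⟨⟨m, ⟨_, k, rfl⟩⟩, hm⟩ := IsLocalizedModule.surj (Submonoid.powers (algebraMap A B a))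
      (Cech.mk (algebraMap A B a) N) (show Cech.L (algebraMap A B a) N from y)
    refine ⟨k, m, ?_⟩
    show algebraMap A B (a ^ k) • (show Cech.L (algebraMap A B a) N from y) = Cech.mk _ N m
    rw [map_pow]
    exact hm
  · obtain ⟨⟨_, k, rfl⟩, hk⟩ := (IsLocalizedModule.eq_zero_iff
      (Submonoid.powers (algebraMap A B a)) (Cech.mk (algebraMap A B a) N)).1 hx
    refine ⟨k, ?_⟩
    rw [← algebraMap_smul B (a ^ k) x, map_pow]
    exact hk

/-- The two localisations agree. -/
noncomputable def eL {a : A} {b : B} (h : algebraMap A B a = b) : Cech.L a N ≃ₗ[A] LB b N A :=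
  have := isLocalizedModule (N := N) h
  IsLocalizedModule.linearEquiv (Submonoid.powers a) (Cech.mk a N) (mkB b)

theorem eL_mk {a : A} {b : B} (h : algebraMap A B a = b) (x : N) :
    eL h (Cech.mk a N x) = Cech.mk b N x :=
  have := isLocalizedModule (N := N) h
  IsLocalizedModule.linearEquiv_apply _ _ _ x

theorem eL_ρ {a a' : A} {b b' : B} (h : algebraMap A B a = b) (h' : algebraMap A B a' = b')
    (hu : IsUnit (algebraMap A (Module.End A (Cech.L a' N)) a))
    (hv : IsUnit (algebraMap B (Module.End B (Cech.L b' N)) b)) (x : Cech.L a N) :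
    eL h' (Cech.ρ a a' hu x) = Cech.ρ b b' hv (eL h x) := by
  have hU : IsUnit (algebraMap A (Module.End A (LB b' N A)) a) := by
    refine (Module.End.isUnit_iff _).2 ?_
    have := (Module.End.isUnit_iff _).1 hv
    subst h
    exact this
  let r : LB b N A →ₗ[A] LB b' N A :=
    { toFun := Cech.ρ b b' hv
      map_add' := map_add (Cech.ρ b b' hv)
      map_smul' := fun c y => map_smul (Cech.ρ b b' hv) (algebraMap A B c) (show Cech.L b N from y) }
  refine LinearMap.congr_fun (IsLocalizedModule.ext (Submonoid.powers a) (Cech.mk a N)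
    (Cech.isUnit_powers hU) (j := (eL h').toLinearMap ∘ₗ Cech.ρ a a' hu)
    (k := r ∘ₗ (eL h).toLinearMap) ?_) x
  refine LinearMap.ext fun m => ?_
  show eL h' (Cech.ρ a a' hu (Cech.mk a N m)) = Cech.ρ b b' hv (eL h (Cech.mk a N m))
  rw [Cech.ρ_mk, eL_mk, eL_mk]
  exact (Cech.ρ_mk b b' hv m).symm

variable {ι : Type u} (s : ι → A)

/-- The images. -/
abbrev sB : ι → B := fun i => algebraMap A B (s i)

theorem map_pr {q : ℕ} (t : Fin q → ι) :
    algebraMap A B (Cech.pr s t) = Cech.pr (sB (B := B) s) t := map_prod _ _ _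

variable (B N) in
/-- Cochains do not depend on the ring. -/
noncomputable def Θ (q : ℕ) : Cech.Cochain N s q ≃+ Cech.Cochain N (sB (B := B) s) q :=
  AddEquiv.piCongrRight fun t => (eL (map_pr s t)).toAddEquiv

theorem Θ_d (q : ℕ) (c : Cech.Cochain N s q) :
    Θ B N s (q + 1) (Cech.dT N s q c) = Cech.dT N (sB (B := B) s) q (Θ B N s q c) := by
  funext t
  show eL (map_pr s t) (Cech.dT N s q c t) = _
  rw [Cech.dT_apply, map_sum, Cech.dT_apply]
  refine Finset.sum_congr rfl fun j _ => ?_
  rw [map_smul, smul_LB, map_pow, map_neg, map_one]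
  exact congrArg _ (eL_ρ (map_pr s (t ∘ j.succAbove)) (map_pr s t) _ _ _)

/-- Cohomology does not depend on the ring. -/
theorem nonempty_T_equiv (p : ℕ) :
    Nonempty ((Cech.T N s).homology p ≃+ (Cech.T N (sB (B := B) s)).homology p) := by
  let K := Cech.T N s
  let K' := Cech.T N (sB (B := B) s)
  let φ : LinearMap.ker (K.d p (p + 1)).hom →+ LinearMap.ker (K'.d p (p + 1)).hom :=
    AddMonoidHom.mk' (fun z => ⟨Θ B N s p z.1, by
      refine (Cech.T_d_apply _ p _).trans ((Θ_d s p z.1).symm.trans ?_)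
      exact (congrArg (Θ B N s (p + 1)) ((Cech.T_d_apply s p z.1).symm.trans z.2)).trans (map_zero _)⟩)
      fun z z' => Subtype.ext (map_add (Θ B N s p) z.1 z'.1)
  have hφ : Function.Surjective φ := fun z => by
    obtain ⟨c, hc⟩ := (Θ B N s p).surjective z.1
    refine ⟨⟨c, (Cech.T_d_apply s p c).trans ((Θ B N s (p + 1)).injective ?_)⟩, Subtype.ext hc⟩
    rw [Θ_d, hc]
    exact ((Cech.T_d_apply _ p _).symm.trans z.2).trans (map_zero (Θ B N s (p + 1))).symm
  let a : LinearMap.ker (K.d p (p + 1)).hom →+ K.homology p :=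
    (Elem.cls (Cech.next_nat p)).toAddMonoidHom
  let b : LinearMap.ker (K.d p (p + 1)).hom →+ K'.homology p :=
    (Elem.cls (K := K') (Cech.next_nat p)).toAddMonoidHom.comp φ
  have hb : Function.Surjective b :=
    (Elem.cls_surjective (K := K') (Cech.next_nat p)).comp hφ
  have hker : a.ker = b.ker := by
    ext z
    cases p with
    | zero =>
      refine (Elem.cls_eq_zero_iff (K := K) CochainComplex.prev_nat_zero (Cech.next_nat 0) z).trans
        (Iff.trans ?_ (Elem.cls_eq_zero_iff (K := K') CochainComplex.prev_nat_zero (Cech.next_nat 0) (φ z)).symm)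
      rw [K.shape 0 0 (by simp), K'.shape 0 0 (by simp)]
      simp only [ModuleCat.hom_zero, LinearMap.range_zero, Submodule.mem_bot]
      exact ((Θ B N s 0).map_eq_zero_iff).symm
    | succ q =>
      refine (Elem.cls_eq_zero_iff (K := K) (Cech.prev_nat q) (Cech.next_nat (q + 1)) z).trans
        (Iff.trans ?_ (Elem.cls_eq_zero_iff (K := K') (Cech.prev_nat q) (Cech.next_nat (q + 1)) (φ z)).symm)
      constructor
      · rintro ⟨w, hw⟩
        refine ⟨Θ B N s q w, (Cech.T_d_apply _ q _).trans ((Θ_d s q w).symm.trans ?_)⟩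
        exact congrArg (Θ B N s (q + 1)) ((Cech.T_d_apply s q w).symm.trans hw)
      · rintro ⟨w, hw⟩
        obtain ⟨w, rfl⟩ := (Θ B N s q).surjective w
        refine ⟨w, (Cech.T_d_apply s q w).trans ((Θ B N s (q + 1)).injective ?_)⟩
        exact (Θ_d s q w).trans ((Cech.T_d_apply _ q _).symm.trans hw)
  exact ⟨(QuotientAddGroup.quotientKerEquivOfSurjective a
      (Elem.cls_surjective (K := K) (Cech.next_nat p))).symm.trans
    ((QuotientAddGroup.quotientAddEquivOfEq hker).trans
      (QuotientAddGroup.quotientKerEquivOfSurjective b hb))⟩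

/-- The Koszul colimit does not depend on the ring. -/
theorem nonempty_koszulHLim_equiv (fs : List A) (gs : List B) (hgs : gs = fs.map (algebraMap A B)) (p : ℕ) :
    Nonempty (CohIII.koszulHLim fs (ModuleCat.of A N) p ≃+
      CohIII.koszulHLim gs (ModuleCat.of B N) p) := by
  subst hgs
  let t : ULift.{u} (Fin fs.length) → A := fun i => fs.get i.down
  have h : ∀ a, a ∈ fs ↔ ∃ i, t i = a := fun a =>
    List.mem_iff_get.trans ⟨fun ⟨i, h⟩ => ⟨⟨i⟩, h⟩, fun ⟨i, h⟩ => ⟨i.down, h⟩⟩
  obtain ⟨e⟩ := Iso.nonempty_equiv fs t h p N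
  obtain ⟨m⟩ := nonempty_T_equiv (B := B) (N := N) t p
  obtain ⟨e'⟩ := Iso.nonempty_equiv (fs.map (algebraMap A B)) (sB (B := B) t) (fun b => by
    rw [List.mem_map]
    exact ⟨fun ⟨a, ha, hab⟩ => let ⟨i, hi⟩ := (h a).1 ha; ⟨i, (congrArg (algebraMap A B) hi).trans hab⟩,
      fun ⟨i, hi⟩ => ⟨t i, (h _).2 ⟨i, rfl⟩, hi⟩⟩) p N
  exact ⟨e.symm.toAddEquiv.trans (m.trans e'.toAddEquiv)⟩

/-- Transport along an isomorphism of modules. -/
theorem nonempty_koszulHLim_congr {N' : Type u} [AddCommGroup N'] [Module A N'] (fs : List A)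
    (e : N ≃ₗ[A] N') (p : ℕ) :
    Nonempty (CohIII.koszulHLim fs (ModuleCat.of A N) p ≃ₗ[A] CohIII.koszulHLim fs (ModuleCat.of A N') p) := by
  let S : ShortComplex (ModuleCat.{u} A) := ShortComplex.mk
    (ModuleCat.ofHom (0 : PUnit.{u + 1} →ₗ[A] N)) (ModuleCat.ofHom e.toLinearMap)
    (ModuleCat.hom_ext (LinearMap.ext fun x => map_zero e))
  have hS : S.ShortExact :=
    { exact := (ShortComplex.ShortExact.moduleCat_exact_iff_function_exact _).2 fun y =>
        ⟨fun hy => ⟨PUnit.unit, (e.map_eq_zero_iff.1 hy).symm⟩, fun ⟨x, hx⟩ => hx ▸ map_zero e⟩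
      mono_f := (ModuleCat.mono_iff_injective _).2 (Function.injective_of_subsingleton _)
      epi_g := (ModuleCat.epi_iff_surjective _).2 e.surjective }
  have h : ∀ q, Subsingleton (CohIII.koszulHLim fs (ModuleCat.of A PUnit.{u + 1}) q) := fun q =>
    KLim.subsingleton_lim fs fun n => by
      suffices h : ∀ z : CohIII.koszulHPow fs (ModuleCat.of A PUnit.{u + 1}) q n, z = 0 from
        ⟨fun a b => (h a).trans (h b).symm⟩
      intro z
      obtain ⟨⟨w, hw⟩, rfl⟩ := Elem.cls_surjective (Groth.Agent.Lib.Koszul.Cone.next_up _) z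
      have : w = 0 := by
        have h0 := Cx.cxMap_smul (0 : A) (𝟙 (ModuleCat.of A PUnit.{u + 1})) (fs.map (· ^ n)) _ w
        rw [show ((0 : A) • 𝟙 (ModuleCat.of A PUnit.{u + 1})) = 𝟙 _ from
          ModuleCat.hom_ext (LinearMap.ext fun _ => rfl), Cx.cxMap_id, zero_smul] at h0
        exact h0
      subst this
      exact map_zero _
  exact KLim.nonempty_equiv_of_left_vanish fs hS p (h p) (h (p + 1))

end Groth.Agent.Lib.Koszul.Stable.BaseChange
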