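import Groth.Agent.Lib.Koszul.Stable.SchemeHH
import Groth.Agent.Lib.Koszul.Stable.BaseChange
import Groth.Agent.Lib.CohDelta.Basic
import Groth.Prelude.Def_LocCohZ
import Groth.Prelude.Def_Wider
import Mathlib.AlgebraicGeometry.Modules.Tilde

/-!
# Cohomology with supports on an affine scheme is a colimit of Koszul cohomology
-/

universe u

open CategoryTheory CategoryTheory.Limits TopologicalSpace Opposite AlgebraicGeometry
open CategoryTheory.Abelian

namespace Groth.Agent.Lib.Koszul.Stable.Supp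

open Groth.Agent.Lib.QCoh

section Top

variable {X : TopCat.{u}} (F : CohTop.Ab X) (U : Opens X)

/-- Morphisms out of a free sheaf are sections. -/
noncomputable def homSect (V : Opens X) :
    (CohCx.freeSheaf (Opens.grothendieckTopology X) V ⟶ F) ≃+ F.obj.obj (op V) where
  toFun := CohFree.evalGen (Opens.grothendieckTopology X) V F
  invFun := CohFree.ofSect (Opens.grothendieckTopology X) V F
  left_inv φ := CohFree.ofSect_evalGen _ _ _ φ
  right_inv s := CohFree.evalGen_ofSect _ _ _ s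
  map_add' := map_add _

/-- Degree zero. -/
noncomputable def e0 (V : Opens X) : CohTop.HU F 0 V ≃+ F.obj.obj (op V) :=
  (Ext.addEquiv₀ (X := CohCx.freeSheaf (Opens.grothendieckTopology X) V) (Y := F)).trans (homSect F V)

theorem e0_pre {V W : Opens X} (h : W ≤ V)
    (x : Ext.{u} (CohCx.freeSheaf (Opens.grothendieckTopology X) V) F 0) :
    e0 F W ((Ext.mk₀ (CohCx.freeSheafMap (Opens.grothendieckTopology X) (homOfLE h))).comp x
      (zero_add 0)) = (F.obj.map (homOfLE h).op).hom (e0 F V x) := by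
  obtain ⟨φ, rfl⟩ := Ext.addEquiv₀.symm.surjective x
  show homSect F W (Ext.addEquiv₀ ((Ext.mk₀ _).comp (Ext.addEquiv₀.symm φ) (zero_add 0))) =
    (F.obj.map (homOfLE h).op).hom (homSect F V (Ext.addEquiv₀ (Ext.addEquiv₀.symm φ)))
  rw [Ext.addEquiv₀_symm_apply, Ext.mk₀_comp_mk₀, ← Ext.addEquiv₀_symm_apply,
    AddEquiv.apply_symm_apply, ← Ext.addEquiv₀_symm_apply, AddEquiv.apply_symm_apply]
  exact CohFree.evalGen_freeSheafMap_comp _ _ _ φ

variable (hvan : ∀ n, Subsingleton (CohTop.HU F (n + 1) (⊤ : Opens X)))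

include hvan in
theorem delta_bijective (n : ℕ) :
    Function.Bijective (LocCohZ.delta F (n + 1) (le_top : U ≤ ⊤)) := by
  refine ⟨(injective_iff_map_eq_zero _).2 fun x hx => ?_, fun y => ?_⟩
  · obtain ⟨z, hz⟩ := Ext.contravariant_sequence_exact₁ (LocCohZ.zqSeq_shortExact (le_top : U ≤ ⊤))
      F x (show 1 + (n + 1) = n + 1 + 1 by omega) hx
    refine hz.symm.trans ((congrArg (CohTop.res F (n + 1) (le_top : U ≤ ⊤))
      (@Subsingleton.elim _ (hvan n) z (0 : CohTop.HU F (n + 1) ⊤))).trans ?_)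
    exact map_zero _
  · obtain ⟨x, hx⟩ := Ext.contravariant_sequence_exact₃ (LocCohZ.zqSeq_shortExact (le_top : U ≤ ⊤))
      F y (@Subsingleton.elim _ (hvan (n + 1)) _ _) (show 1 + (n + 1) = n + 1 + 1 by omega)
    exact ⟨x, hx⟩

/-- The connecting map on sections. -/
noncomputable def δ₀ : F.obj.obj (op U) →+ LocCohZ.HZc F 1 U :=
  (LocCohZ.delta F 0 (le_top : U ≤ ⊤)).comp (e0 F U).symm.toAddMonoidHom

include hvan in
theorem δ₀_surjective : Function.Surjective (δ₀ F U) := fun y => by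
  obtain ⟨x, hx⟩ := Ext.contravariant_sequence_exact₃ (LocCohZ.zqSeq_shortExact (le_top : U ≤ ⊤))
    F y (@Subsingleton.elim _ (hvan 0) _ _) (show 1 + 0 = 1 by omega)
  exact ⟨e0 F U x, (congrArg (LocCohZ.delta F 0 (le_top : U ≤ ⊤)) ((e0 F U).symm_apply_apply x)).trans hx⟩

theorem δ₀_ker : (δ₀ F U).ker = (F.obj.map (homOfLE (le_top : U ≤ ⊤)).op).hom.range := by
  ext s
  constructor
  · intro hs
    obtain ⟨z, hz⟩ := Ext.contravariant_sequence_exact₁ (LocCohZ.zqSeq_shortExact (le_top : U ≤ ⊤))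
      F ((e0 F U).symm s) (show 1 + 0 = 0 + 1 by omega) hs
    refine ⟨e0 F ⊤ z, ?_⟩
    refine (e0_pre F (le_top : U ≤ ⊤) z).symm.trans ?_
    exact (congrArg (e0 F U) hz).trans ((e0 F U).apply_symm_apply s)
  · rintro ⟨t, rfl⟩
    obtain ⟨z, rfl⟩ := (e0 F ⊤).surjective t
    rw [show (F.obj.map (homOfLE (le_top : U ≤ ⊤)).op).hom (e0 F ⊤ z) = _ from
      (e0_pre F (le_top : U ≤ ⊤) z).symm]
    show LocCohZ.delta F 0 (le_top : U ≤ ⊤) ((e0 F U).symm (e0 F U _)) = 0
    refine (congrArg (LocCohZ.delta F 0 (le_top : U ≤ ⊤)) ((e0 F U).symm_apply_apply _)).trans ?_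
    exact (LocCohZ.zqSeq_shortExact (le_top : U ≤ ⊤)).extClass_comp_assoc z (h := by omega)

end Top

variable (A : Type u) [CommRing A] (fs : List A) (M : Type u) [AddCommGroup M] [Module A M]

/-- The sheaf. -/
noncomputable abbrev sh : (Spec (CommRingCat.of A)).Modules :=
  tilde (R := CommRingCat.of A) (ModuleCat.of A M)

/-- The ring map. -/
noncomputable abbrev φ : A →+* Γ(Spec (CommRingCat.of A), ⊤) :=
  (Scheme.ΓSpecIso (CommRingCat.of A)).inv.hom

theorem exists_equiv : ∃ e : M ≃+ Sch.Top (sh A M),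
    ∀ (a : A) (m : M), e (a • m) = φ A a • e m := by
  let ψ := (tilde.isoTop (R := CommRingCat.of A) (ModuleCat.of A M)).toLinearEquiv
  refine ⟨ψ.toAddEquiv, fun a m => ?_⟩
  refine (map_smul ψ a m).trans ?_
  refine (Localizing.smul_spec_eq (R := CommRingCat.of A) (sh A M) a (ψ m)).trans ?_
  rw [Localizing.resR_self]
  rfl

theorem punctured_eq :
    LocCoh.puncturedOpen A (Ideal.span {a | a ∈ fs}) =
      SchLow.union (SchLow.mem' (fs.map (φ A))) := by
  ext x
  show x ∈ (PrimeSpectrum.zeroLocus ((Ideal.span {a | a ∈ fs} : Ideal A) : Set A))ᶜ ↔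
    x ∈ SchLow.union (SchLow.mem' (fs.map (φ A)))
  refine Iff.trans (b := ∃ f ∈ fs, f ∉ x.asIdeal) ?_ (Iff.trans ?_ Opens.mem_iSup.symm)
  · show ¬ (((Ideal.span {a | a ∈ fs} : Ideal A) : Set A) ⊆ (x.asIdeal : Set A)) ↔ _
    rw [SetLike.coe_subset_coe, Ideal.span_le]
    exact Set.not_subset
  have key : ∀ f : A, x ∈ (Spec (CommRingCat.of A)).basicOpen (φ A f) ↔ f ∉ x.asIdeal := fun f => by
    rw [show (Spec (CommRingCat.of A)).basicOpen (φ A f) = PrimeSpectrum.basicOpen f from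
      basicOpen_eq_of_affine (R := CommRingCat.of A) f]
    rfl
  constructor
  · rintro ⟨f, hf, hfx⟩
    obtain ⟨j, hj⟩ := List.mem_iff_get.1 (List.mem_map.2 ⟨f, hf, rfl⟩ : φ A f ∈ fs.map (φ A))
    exact ⟨⟨j⟩, by
      show x ∈ (Spec (CommRingCat.of A)).basicOpen ((fs.map (φ A)).get j)
      rw [hj, key]; exact hfx⟩
  · rintro ⟨j, hj⟩
    obtain ⟨f, hf, hfe⟩ := List.mem_map.1 (List.get_mem (fs.map (φ A)) j.down)
    change x ∈ (Spec (CommRingCat.of A)).basicOpen ((fs.map (φ A)).get j.down) at hj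
    rw [← hfe, key] at hj
    exact ⟨f, hf, hj⟩

theorem nonempty_top_equiv (i : ℕ) :
    Nonempty (CohIII.koszulHLim fs (ModuleCat.of A M) i ≃+
      CohIII.koszulHLim (fs.map (φ A))
        (ModuleCat.of Γ(Spec (CommRingCat.of A), ⊤) (Sch.Top (sh A M))) i) := by
  let := (φ A).toAlgebra
  let : Module A (Sch.Top (sh A M)) := Module.compHom _ (φ A)
  have : IsScalarTower A Γ(Spec (CommRingCat.of A), ⊤) (Sch.Top (sh A M)) :=
    IsScalarTower.of_algebraMap_smul fun _ _ => rfl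
  obtain ⟨e, he⟩ := exists_equiv A M
  obtain ⟨a⟩ := BaseChange.nonempty_koszulHLim_congr fs (e.toLinearEquiv he) i
  obtain ⟨b⟩ := BaseChange.nonempty_koszulHLim_equiv (B := Γ(Spec (CommRingCat.of A), ⊤))
    (N := Sch.Top (sh A M)) fs (fs.map (φ A)) rfl i
  exact ⟨a.toAddEquiv.trans b⟩

/-- `colim H^i(f^n, M) = H^i_Y(X, M~)`. -/
theorem nonempty_equiv (i : ℕ) :
    Nonempty (CohIII.koszulHLim fs (ModuleCat.of A M) i ≃+
      LocCohZ.HZM (Spec (CommRingCat.of A)) (sh A M) i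
        (LocCoh.puncturedOpen A (Ideal.span {a | a ∈ fs}))) := by
  obtain ⟨t⟩ := nonempty_top_equiv A fs M i
  haveI : (sh A M).IsQuasicoherent := by infer_instance
  have hvan : ∀ n, Subsingleton
      (CohTop.HU (Coh.toAb (sh A M)) (n + 1) (⊤ : (Spec (CommRingCat.of A)).Opens)) := fun n =>
    ZarCoh.Affine.HU_subsingleton (sh A M) (isAffineOpen_top (Spec (CommRingCat.of A))) n
  rw [punctured_eq A fs]
  match i with
  | 0 =>
    obtain ⟨⟨a⟩, -⟩ := SchLow.nonempty_ker_coker (sh A M) (fs.map (φ A)) _ rfl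
    exact ⟨t.trans (a.symm.trans (LocCohZ.sect0Equiv (Coh.toAb (sh A M))
      (le_top : SchLow.union (SchLow.mem' (fs.map (φ A))) ≤ ⊤)).symm)⟩
  | 1 =>
    obtain ⟨-, ⟨a⟩⟩ := SchLow.nonempty_ker_coker (sh A M) (fs.map (φ A)) _ rfl
    exact ⟨t.trans (a.symm.trans ((QuotientAddGroup.quotientAddEquivOfEq
      (δ₀_ker (Coh.toAb (sh A M)) (SchLow.union (SchLow.mem' (fs.map (φ A))))).symm).trans
      (QuotientAddGroup.quotientKerEquivOfSurjective _ (δ₀_surjective _ _ hvan))))⟩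
  | n + 2 =>
    obtain ⟨a⟩ := SchHH.nonempty_HHon (sh A M) (fs.map (φ A))
      (fun j => (isAffineOpen_top (Spec (CommRingCat.of A))).basicOpen _)
      (SchLow.union (SchLow.mem' (fs.map (φ A)))) (SchLow.union_eq _) (n + 1) (by omega)
    exact ⟨t.trans (a.symm.trans ((CohDelta.Basic.hU (sh A M) _ (n + 1)).trans
      (AddEquiv.ofBijective _ (delta_bijective (Coh.toAb (sh A M)) _ hvan n))))⟩

end Groth.Agent.Lib.Koszul.Stable.Supp
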