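import Groth.Agent.Lib.Koszul.Stable.Cx
import Mathlib.Algebra.Homology.HomologySequenceLemmas
import Mathlib.Algebra.Colimit.Module

/-!
# The colimit `CohIII.koszulHLim` of Koszul cohomology
-/

universe u

open CategoryTheory CategoryTheory.Limits CochainComplex

namespace Groth.Agent.Lib.Koszul.Stable.KLim

open Groth.Agent.Lib.FlatCx Groth.Agent.Lib.Koszul.Cone Groth.Agent.Lib.Koszul.Stable.Cx

variable {A : Type u} [CommRing A] (fs : List A)

/-- The transition maps. -/
noncomputable abbrev tr (M : ModuleCat.{u} A) (p : ℕ) (n m : ℕ) (h : n ≤ m) :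
    CohIII.koszulHPow fs M p n →ₗ[A] CohIII.koszulHPow fs M p m :=
  (HomologicalComplex.homologyMap (CohIII.koszulTrans M n m h fs) ((p : ℤ) - fs.length)).hom

theorem trans_comp_hom (M : ModuleCat.{u} A) (n m k : ℕ) (h : n ≤ m) (h' : m ≤ k) :
    CohIII.koszulTrans M n m h fs ≫ CohIII.koszulTrans M m k h' fs =
      CohIII.koszulTrans M n k (h.trans h') fs := by
  ext i z; exact trans_trans M n m k h h' fs i z

theorem trans_refl_hom (M : ModuleCat.{u} A) (n : ℕ) :
    CohIII.koszulTrans M n n le_rfl fs = 𝟙 _ := by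
  ext i z; exact trans_refl M n fs i z

instance directedSystem (M : ModuleCat.{u} A) (p : ℕ) :
    DirectedSystem (fun n : ℕ => (CohIII.koszulHPow fs M p n : Type u))
      (fun n m h => (HomologicalComplex.homologyMap (CohIII.koszulTrans M n m h fs)
        ((p : ℤ) - fs.length)).hom) where
  map_self n x := by
    rw [trans_refl_hom, HomologicalComplex.homologyMap_id]; rfl
  map_map k j i hij hjk x := by
    rw [← trans_comp_hom fs M i j k hij hjk, HomologicalComplex.homologyMap_comp]; rfl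

/-- The canonical maps to the colimit. -/
noncomputable def of (M : ModuleCat.{u} A) (p n : ℕ) :
    CohIII.koszulHPow fs M p n →ₗ[A] CohIII.koszulHLim fs M p :=
  Module.DirectLimit.of A ℕ (fun n : ℕ => (CohIII.koszulHPow fs M p n : Type u)) (fun n m h => tr fs M p n m h) n

theorem of_tr {M : ModuleCat.{u} A} {p n m : ℕ} (h : n ≤ m) (x : CohIII.koszulHPow fs M p n) :
    of fs M p m (tr fs M p n m h x) = of fs M p n x :=
  Module.DirectLimit.of_f

theorem exists_of {M : ModuleCat.{u} A} {p : ℕ} (z : CohIII.koszulHLim fs M p) :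
    ∃ n x, of fs M p n x = z :=
  Module.DirectLimit.exists_of z

theorem exists_tr_eq_zero {M : ModuleCat.{u} A} {p n : ℕ} {x : CohIII.koszulHPow fs M p n}
    (h : of fs M p n x = 0) : ∃ m, ∃ hm : n ≤ m, tr fs M p n m hm x = 0 :=
  Module.DirectLimit.of.zero_exact h

/-- The elements killed by powers of all the members of the list. -/
def gamma (M : Type u) [AddCommGroup M] [Module A M] : Submodule A M where
  carrier := {x | ∀ f ∈ fs, ∃ k : ℕ, f ^ k • x = 0}
  zero_mem' := fun _ _ => ⟨0, smul_zero _⟩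
  add_mem' := fun {x y} hx hy f hf => by
    obtain ⟨k, hk⟩ := hx f hf
    obtain ⟨k', hk'⟩ := hy f hf
    exact ⟨k + k', by rw [pow_add, smul_add, mul_comm, mul_smul, hk, smul_zero, zero_add,
      mul_comm, mul_smul, hk', smul_zero]⟩
  smul_mem' := fun c x hx f hf => by
    obtain ⟨k, hk⟩ := hx f hf
    exact ⟨k, by rw [smul_comm, hk, smul_zero]⟩

theorem mem_gamma {M : Type u} [AddCommGroup M] [Module A M] {x : M} :
    x ∈ gamma fs M ↔ ∀ f ∈ fs, ∃ k : ℕ, f ^ k • x = 0 := Iff.rfl

theorem exists_common_pow {M : Type u} [AddCommGroup M] [Module A M] {x : M}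
    (hx : x ∈ gamma fs M) : ∃ n : ℕ, ∀ f ∈ fs, f ^ n • x = 0 := by
  choose k hk using fun f : {f // f ∈ fs} => hx f.1 f.2
  refine ⟨(fs.attach.map k).sum, fun f hf => ?_⟩
  have hle : k ⟨f, hf⟩ ≤ (fs.attach.map k).sum :=
    List.le_sum_of_mem (List.mem_map.2 ⟨⟨f, hf⟩, List.mem_attach _ _, rfl⟩)
  obtain ⟨d, hd⟩ := Nat.le.dest hle
  rw [← hd, pow_add, mul_comm, mul_smul]
  exact (congrArg (f ^ d • ·) (hk ⟨f, hf⟩)).trans (smul_zero _)

theorem bot_degree (n : ℕ) : ((0 : ℕ) : ℤ) - (fs.length : ℤ) = -((fs.map (· ^ n)).length : ℤ) := by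
  simp

theorem cls_bot_injective {M : ModuleCat.{u} A} {l : List A} {i : ℤ} (hi : i = -(l.length : ℤ))
    (z : LinearMap.ker ((CohIII.koszulCx M l).d i (i + 1)).hom)
    (h : Elem.cls (next_up i) z = 0) : z = 0 := by
  obtain ⟨y, hy⟩ := (Elem.cls_eq_zero_iff (prev_up i) (next_up i) z).1 h
  obtain rfl : y = 0 := @Subsingleton.elim _ (subsingleton_X_of_lt M l (i - 1) (by omega)) _ _
  exact Subtype.ext (hy.symm.trans (map_zero _))

/-- Level `n` of degree zero maps to the torsion. -/
noncomputable def toGamma (M : ModuleCat.{u} A) (n : ℕ) :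
    CohIII.koszulHPow fs M 0 n →ₗ[A] gamma fs M :=
  SmulCone.descH _
    ((bot M (fs.map (· ^ n)) _ (bot_degree fs n) ∘ₗ
      (LinearMap.ker ((CohIII.koszulCx M (fs.map (· ^ n))).d (((0 : ℕ) : ℤ) - fs.length)
        (((0 : ℕ) : ℤ) - fs.length + 1)).hom).subtype).codRestrict _ (fun z f hf => ⟨n, by
      exact ((d_bot_eq_zero_iff M _ _ (bot_degree fs n) z.1).1 z.2) _ (List.mem_map.2 ⟨f, hf, rfl⟩)⟩))
    (fun y => by
      obtain rfl : y = 0 := @Subsingleton.elim _
        (subsingleton_X_of_lt M (fs.map (· ^ n)) _ (by simp)) _ _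
      refine Subtype.ext ?_
      show bot M _ _ (bot_degree fs n) _ = 0
      exact (congrArg (bot M _ _ (bot_degree fs n)) (map_zero ((CohIII.koszulCx M (fs.map (· ^ n))).d
        (((0 : ℕ) : ℤ) - fs.length - 1) (((0 : ℕ) : ℤ) - fs.length)).hom)).trans (map_zero _))

theorem toGamma_cls (M : ModuleCat.{u} A) (n : ℕ)
    (z : LinearMap.ker ((CohIII.koszulCx M (fs.map (· ^ n))).d (((0 : ℕ) : ℤ) - fs.length)
        (((0 : ℕ) : ℤ) - fs.length + 1)).hom) :
    (toGamma fs M n (Elem.cls (next_up _) z) : M) = bot M _ _ (bot_degree fs n) z.1 :=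
  congrArg Subtype.val (SmulCone.descH_cls _ _ _ z)

theorem toGamma_tr (M : ModuleCat.{u} A) (n m : ℕ) (h : n ≤ m) (x : CohIII.koszulHPow fs M 0 n) :
    toGamma fs M m (tr fs M 0 n m h x) = toGamma fs M n x := by
  obtain ⟨z, rfl⟩ := Elem.cls_surjective (next_up _) x
  have hz : (CohIII.koszulTrans M n m h fs).f _ z.1 ∈ LinearMap.ker
      ((CohIII.koszulCx M (fs.map (· ^ m))).d (((0 : ℕ) : ℤ) - fs.length)
        (((0 : ℕ) : ℤ) - fs.length + 1)).hom := by
    show _ = 0
    rw [f_d, show (CohIII.koszulCx M (fs.map (· ^ n))).d _ _ z.1 = 0 from z.2, map_zero]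
  refine Subtype.ext ?_
  rw [show tr fs M 0 n m h (Elem.cls (next_up _) z) = Elem.cls (next_up _) ⟨_, hz⟩ from
    Elem.homologyMap_cls _ _ z ⟨_, hz⟩ rfl, toGamma_cls, toGamma_cls]
  exact bot_trans M n m h fs _ _ _ z.1

theorem toGamma_injective (M : ModuleCat.{u} A) (n : ℕ) : Function.Injective (toGamma fs M n) := by
  rw [injective_iff_map_eq_zero]
  intro x hx
  obtain ⟨z, rfl⟩ := Elem.cls_surjective (next_up _) x
  have h : bot M _ _ (bot_degree fs n) z.1 = 0 := by rw [← toGamma_cls, hx]; rfl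
  rw [show z = 0 from Subtype.ext ((bot_bijective M _ _ _).1 (h.trans (map_zero _).symm))]
  exact map_zero _

/-- `H^0((f), M)` is the torsion. -/
noncomputable def gammaEquiv (M : ModuleCat.{u} A) :
    CohIII.koszulHLim fs M 0 ≃ₗ[A] gamma fs M :=
  LinearEquiv.ofBijective
    (Module.DirectLimit.lift A ℕ (fun n : ℕ => (CohIII.koszulHPow fs M 0 n : Type u)) (fun n m h => tr fs M 0 n m h)
      (toGamma fs M) (fun n m h x => toGamma_tr fs M n m h x))
    ⟨Module.DirectLimit.lift_injective _ _ (toGamma_injective fs M), fun x => by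
      obtain ⟨n, hn⟩ := exists_common_pow fs x.2
      obtain ⟨z, hz⟩ := (bot_bijective M (fs.map (· ^ n)) _ (bot_degree fs n)).2 x.1
      have hz' : (CohIII.koszulCx M (fs.map (· ^ n))).d _ (((0 : ℕ) : ℤ) - fs.length + 1) z = 0 :=
        (d_bot_eq_zero_iff M _ _ (bot_degree fs n) z).2 (by
          simp only [List.forall_mem_map]
          exact fun f hf => by rw [hz]; exact hn f hf)
      refine ⟨of fs M 0 n (Elem.cls (next_up _) ⟨z, hz'⟩), ?_⟩
      refine (Module.DirectLimit.lift_of _ _ _).trans (Subtype.ext ?_)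
      rw [toGamma_cls]
      exact hz⟩

/-- A torsion module has no higher colimit cohomology. -/
theorem subsingleton_of_torsion {M : ModuleCat.{u} A} (hM : ∀ x : M, x ∈ gamma fs M) {p : ℕ}
    (hp : p ≠ 0) : Subsingleton (CohIII.koszulHLim fs M p) := by
  suffices h : ∀ z : CohIII.koszulHLim fs M p, z = 0 from ⟨fun a b => by rw [h a, h b]⟩
  intro z
  obtain ⟨n, x, rfl⟩ := exists_of fs z
  obtain ⟨⟨w, hw⟩, rfl⟩ := Elem.cls_surjective (next_up _) x
  obtain ⟨m, hm, hz⟩ := exists_trans_eq_zero fs (fun y f hf => hM y f hf) n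
    ((p : ℤ) - fs.length) (by omega) w
  rw [← of_tr fs hm, show tr fs M p n m hm (Elem.cls (next_up _) ⟨w, hw⟩) =
    Elem.cls (next_up _) (0 : LinearMap.ker _) from Elem.homologyMap_cls _ _ ⟨w, hw⟩ 0 hz, map_zero,
    map_zero]

theorem mk_mem_ker {M N : ModuleCat.{u} A} (g : M ⟶ N) (l : List A) (i : ℤ)
    {w : (CohIII.koszulCx M l).X i} (hw : (CohIII.koszulCx M l).d i (i + 1) w = 0) :
    (cxMap g l).f i w ∈ LinearMap.ker ((CohIII.koszulCx N l).d i (i + 1)).hom := by
  show _ = 0
  rw [f_d, hw, map_zero]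

/-- If a member of the list acts bijectively, every level vanishes. -/
theorem subsingleton_level_of_bijective {M : ModuleCat.{u} A} (l : List A) {f : A} (hf : f ∈ l)
    (hb : Function.Bijective (fun x : M => f • x)) (i : ℤ) :
    Subsingleton ((CohIII.koszulCx M l).homology i) := by
  suffices h : ∀ z : (CohIII.koszulCx M l).homology i, z = 0 from ⟨fun a b => by rw [h a, h b]⟩
  intro z
  have hkill : ∀ z : (CohIII.koszulCx M l).homology i, f • z = 0 := fun z => by
    apply (Basic.cxHomologyIso M l i).toLinearEquiv.injective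
    rw [map_smul, map_zero]
    exact Basic.smul_homology_eq_zero_of_mem_span _ l (Ideal.subset_span hf) i _
  let e : M ≃ₗ[A] M := LinearEquiv.ofBijective (f • LinearMap.id) hb
  obtain ⟨⟨w, hw⟩, rfl⟩ := Elem.cls_surjective (next_up i) z
  have hw' := mk_mem_ker (ModuleCat.ofHom e.symm.toLinearMap) l i hw
  have key : (⟨w, hw⟩ : LinearMap.ker ((CohIII.koszulCx M l).d i (i + 1)).hom) = f • ⟨_, hw'⟩ := by
    refine Subtype.ext ?_
    show w = f • (cxMap (ModuleCat.ofHom e.symm.toLinearMap) l).f i w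
    rw [← cxMap_smul]
    conv_lhs => rw [← cxMap_id M l i w]
    congr 4
    ext x
    exact (e.apply_symm_apply x).symm
  rw [key, map_smul]
  exact hkill _

theorem subsingleton_level_pi {ι : Type u} [Fintype ι] (N : ι → Type u) [∀ i, AddCommGroup (N i)]
    [∀ i, Module A (N i)] (l : List A) (i : ℤ)
    (h : ∀ j, Subsingleton ((CohIII.koszulCx (ModuleCat.of A (N j)) l).homology i)) :
    Subsingleton ((CohIII.koszulCx (ModuleCat.of A (∀ j, N j)) l).homology i) := by
  classical
  suffices h : ∀ z : (CohIII.koszulCx (ModuleCat.of A (∀ j, N j)) l).homology i, z = 0 from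
    ⟨fun a b => by rw [h a, h b]⟩
  intro z
  obtain ⟨⟨w, hw⟩, rfl⟩ := Elem.cls_surjective (next_up i) z
  let π : ∀ j, ModuleCat.of A (∀ j, N j) ⟶ ModuleCat.of A (N j) := fun j =>
    ModuleCat.ofHom (LinearMap.proj j)
  let σ : ∀ j, ModuleCat.of A (N j) ⟶ ModuleCat.of A (∀ j, N j) := fun j =>
    ModuleCat.ofHom (LinearMap.single A N j)
  have hid : ∑ j, π j ≫ σ j = 𝟙 _ := by
    refine ModuleCat.hom_ext (LinearMap.ext fun x => ?_)
    rw [ModuleCat.hom_sum, LinearMap.sum_apply]
    exact Finset.univ_sum_single x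
  have hsum : ∀ s : Finset ι, (cxMap (∑ j ∈ s, π j ≫ σ j) l).f i w =
      ∑ j ∈ s, (cxMap (σ j) l).f i ((cxMap (π j) l).f i w) := fun s => by
    induction s using Finset.induction with
    | empty =>
      rw [Finset.sum_empty, Finset.sum_empty]
      have := cxMap_smul (0 : A) (𝟙 (ModuleCat.of A (∀ j, N j))) l i w
      rwa [zero_smul, zero_smul] at this
    | insert a s ha ih =>
      rw [Finset.sum_insert ha, Finset.sum_insert ha, cxMap_add, ih, cxMap_comp]
  have h1 : ∀ j, (cxMap (σ j) l).f i ((cxMap (π j) l).f i w) ∈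
      LinearMap.ker ((CohIII.koszulCx (ModuleCat.of A (∀ j, N j)) l).d i (i + 1)).hom := fun j =>
    mk_mem_ker _ l i (mk_mem_ker _ l i hw)
  have key : (⟨w, hw⟩ : LinearMap.ker _) = ∑ j, (⟨_, h1 j⟩ : LinearMap.ker _) := by
    refine Subtype.ext ?_
    rw [Submodule.coe_sum]
    show w = _
    rw [← hsum, hid, cxMap_id]
  rw [key, map_sum]
  refine Finset.sum_eq_zero fun j _ => ?_
  rw [← Elem.homologyMap_cls (cxMap (σ j) l) (next_up i) ⟨_, mk_mem_ker (π j) l i hw⟩ ⟨_, h1 j⟩ rfl,
    @Subsingleton.elim _ (h j) (Elem.cls (next_up i) _) 0, map_zero]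

theorem subsingleton_lim {M : ModuleCat.{u} A} {p : ℕ}
    (h : ∀ n, Subsingleton (CohIII.koszulHPow fs M p n)) :
    Subsingleton (CohIII.koszulHLim fs M p) := by
  suffices h' : ∀ z : CohIII.koszulHLim fs M p, z = 0 from ⟨fun a b => by rw [h' a, h' b]⟩
  intro z
  obtain ⟨n, x, rfl⟩ := exists_of fs z
  rw [@Subsingleton.elim _ (h n) x 0, map_zero]

section SES

variable {fs}

/-- The short exact sequence of Koszul complexes. -/
noncomputable def cxShort (S : ShortComplex (ModuleCat.{u} A)) (l : List A) :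
    ShortComplex (CochainComplex (ModuleCat.{u} A) ℤ) :=
  ShortComplex.mk (cxMap S.f l) (cxMap S.g l) (by
    ext i z
    show (cxMap S.g l).f i ((cxMap S.f l).f i z) = 0
    rw [cxMap_comp, S.zero]
    have := cxMap_smul (0 : A) (0 : S.X₁ ⟶ S.X₃) l i z
    rwa [zero_smul, zero_smul] at this)

theorem shortExact_cxShort {S : ShortComplex (ModuleCat.{u} A)} (hS : S.ShortExact) (l : List A) :
    (cxShort S l).ShortExact := by
  refine HomologicalComplex.shortExact_of_degreewise_shortExact _ fun i =>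
    { exact := ?_, mono_f := ?_, epi_g := ?_ }
  · rw [ShortComplex.moduleCat_exact_iff]
    intro z hz
    exact (cxMap_f_exact S.f S.g ((ShortComplex.ShortExact.moduleCat_exact_iff_function_exact S).1 hS.exact) l i z).1 hz
  · exact (ModuleCat.mono_iff_injective _).2
      (cxMap_f_injective S.f ((ModuleCat.mono_iff_injective _).1 hS.mono_f) l i)
  · exact (ModuleCat.epi_iff_surjective _).2
      (cxMap_f_surjective S.g ((ModuleCat.epi_iff_surjective _).1 hS.epi_g) l i)

/-- Naturality of the transition maps. -/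
noncomputable def cxShortTrans (S : ShortComplex (ModuleCat.{u} A)) (fs : List A) (n m : ℕ) (h : n ≤ m) :
    cxShort S (fs.map (· ^ n)) ⟶ cxShort S (fs.map (· ^ m)) :=
  ShortComplex.homMk (CohIII.koszulTrans S.X₁ n m h fs) (CohIII.koszulTrans S.X₂ n m h fs)
    (CohIII.koszulTrans S.X₃ n m h fs)
    (by ext i z; exact (trans_natural S.f n m h fs i z).symm)
    (by ext i z; exact (trans_natural S.g n m h fs i z).symm)

variable (fs)

/-- Functoriality of each level. -/
noncomputable abbrev levelMap {M N : ModuleCat.{u} A} (g : M ⟶ N) (p n : ℕ) :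
    CohIII.koszulHPow fs M p n →ₗ[A] CohIII.koszulHPow fs N p n :=
  (HomologicalComplex.homologyMap (cxMap g (fs.map (· ^ n))) ((p : ℤ) - fs.length)).hom

theorem levelMap_tr {M N : ModuleCat.{u} A} (g : M ⟶ N) (p n m : ℕ) (h : n ≤ m)
    (x : CohIII.koszulHPow fs M p n) :
    levelMap fs g p m (tr fs M p n m h x) = tr fs N p n m h (levelMap fs g p n x) := by
  have e : CohIII.koszulTrans M n m h fs ≫ cxMap g (fs.map (· ^ m)) =
      cxMap g (fs.map (· ^ n)) ≫ CohIII.koszulTrans N n m h fs := by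
    ext i z; exact (trans_natural g n m h fs i z).symm
  have := congrArg (fun φ => HomologicalComplex.homologyMap φ ((p : ℤ) - fs.length)) e
  simp only [HomologicalComplex.homologyMap_comp] at this
  exact ConcreteCategory.congr_hom this x

theorem up_rel (p : ℕ) :
    (ComplexShape.up ℤ).Rel ((p : ℤ) - fs.length) (((p + 1 : ℕ) : ℤ) - fs.length) := by
  show (p : ℤ) - fs.length + 1 = _
  push_cast
  ring

/-- If the sub module has no cohomology, the quotient has that of the module. -/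
theorem nonempty_equiv_of_left_vanish {S : ShortComplex (ModuleCat.{u} A)} (hS : S.ShortExact) (p : ℕ)
    (h₀ : Subsingleton (CohIII.koszulHLim fs S.X₁ p))
    (h₁ : Subsingleton (CohIII.koszulHLim fs S.X₁ (p + 1))) :
    Nonempty (CohIII.koszulHLim fs S.X₂ p ≃ₗ[A] CohIII.koszulHLim fs S.X₃ p) := by
  let Φ : CohIII.koszulHLim fs S.X₂ p →ₗ[A] CohIII.koszulHLim fs S.X₃ p :=
    Module.DirectLimit.lift A ℕ (fun n : ℕ => (CohIII.koszulHPow fs S.X₂ p n : Type u))
      (fun n m h => tr fs S.X₂ p n m h) (fun n => of fs S.X₃ p n ∘ₗ levelMap fs S.g p n)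
      (fun n m h x => by
        rw [LinearMap.comp_apply, LinearMap.comp_apply, levelMap_tr, of_tr])
  have hΦ : ∀ n x, Φ (of fs S.X₂ p n x) = of fs S.X₃ p n (levelMap fs S.g p n x) :=
    fun n x => Module.DirectLimit.lift_of _ _ _
  refine ⟨LinearEquiv.ofBijective Φ ⟨(injective_iff_map_eq_zero _).2 fun z hz => ?_, fun z => ?_⟩⟩
  · obtain ⟨n, x, rfl⟩ := exists_of fs z
    rw [hΦ] at hz
    obtain ⟨m, hm, hxm⟩ := exists_tr_eq_zero fs hz
    rw [← levelMap_tr] at hxm
    obtain ⟨y, hy⟩ := (ShortComplex.moduleCat_exact_iff _).1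
      ((shortExact_cxShort hS (fs.map (· ^ m))).homology_exact₂ ((p : ℤ) - fs.length)) _ hxm
    change levelMap fs S.f p m y = _ at hy
    obtain ⟨k, hk, hyk⟩ := exists_tr_eq_zero fs (@Subsingleton.elim _ h₀ (of fs S.X₁ p m y) 0)
    rw [← of_tr fs hm, ← hy, ← of_tr fs hk]
    refine (congrArg (of fs S.X₂ p k) ((levelMap_tr fs S.f p m k hk y).symm.trans ?_)).trans (map_zero _)
    exact (congrArg (levelMap fs S.f p k) hyk).trans (map_zero _)
  · obtain ⟨n, x, rfl⟩ := exists_of fs z
    let δ := (shortExact_cxShort hS (fs.map (· ^ n))).δ _ _ (up_rel fs p)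
    obtain ⟨m, hm, hm'⟩ := exists_tr_eq_zero fs
      (@Subsingleton.elim _ h₁ (of fs S.X₁ (p + 1) n (δ x)) 0)
    have hn : (shortExact_cxShort hS (fs.map (· ^ m))).δ _ _ (up_rel fs p) (tr fs S.X₃ p n m hm x) = 0 := by
      have := ConcreteCategory.congr_hom (HomologicalComplex.HomologySequence.δ_naturality
        (cxShortTrans S fs n m hm) (shortExact_cxShort hS _) (shortExact_cxShort hS _) _ _ (up_rel fs p)) x
      exact this.symm.trans hm'
    obtain ⟨y, hy⟩ := (ShortComplex.moduleCat_exact_iff _).1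
      ((shortExact_cxShort hS (fs.map (· ^ m))).homology_exact₃ _ _ (up_rel fs p)) _ hn
    change levelMap fs S.g p m y = _ at hy
    exact ⟨of fs S.X₂ p m y,
      (hΦ m y).trans ((congrArg (of fs S.X₃ p m) hy).trans (of_tr fs hm x))⟩

/-- If the middle module has no cohomology at any level, the degree shifts. -/
theorem nonempty_equiv_of_middle_vanish {S : ShortComplex (ModuleCat.{u} A)} (hS : S.ShortExact)
    (p : ℕ) (h : ∀ q n, Subsingleton (CohIII.koszulHPow fs S.X₂ q n)) :
    Nonempty (CohIII.koszulHLim fs S.X₃ p ≃ₗ[A] CohIII.koszulHLim fs S.X₁ (p + 1)) := by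
  let e : ∀ n, (CohIII.koszulHPow fs S.X₃ p n : Type u) ≃ₗ[A] CohIII.koszulHPow fs S.X₁ (p + 1) n :=
    fun n => ((shortExact_cxShort hS (fs.map (· ^ n))).δIso _ _ (up_rel fs p)
      (ModuleCat.isZero_iff_subsingleton.2 (h p n))
      (ModuleCat.isZero_iff_subsingleton.2 (h (p + 1) n))).toLinearEquiv
  refine ⟨Module.DirectLimit.congr e fun n m hnm => ?_⟩
  refine LinearMap.ext fun x => ?_
  exact (ConcreteCategory.congr_hom (HomologicalComplex.HomologySequence.δ_naturality
    (cxShortTrans S fs n m hnm) (shortExact_cxShort hS _) (shortExact_cxShort hS _) _ _ (up_rel fs p)) x).symm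

end SES

end Groth.Agent.Lib.Koszul.Stable.KLim
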