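import Groth.Agent.Lib.Koszul.Stable.SchemeLow
import Groth.Agent.Lib.ZarCoh.Affine

/-!
# Cohomology of a union of affine basic opens
-/

universe u

open CategoryTheory CategoryTheory.Limits AlgebraicGeometry TopologicalSpace Opposite

namespace Groth.Agent.Lib.Koszul.Stable.SchHH

variable {X : Scheme.{u}} (F : X.Modules) [CompactSpace X] [QuasiSeparatedSpace X] [F.IsQuasicoherent]
variable (fs : List Γ(X, ⊤))

/-- `H^q(U, F) = H^{q+1}((f), M)`. -/
theorem nonempty_HHon (haff : ∀ i : Fin fs.length, IsAffineOpen (X.basicOpen (fs.get i)))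
    (U : X.Opens) (hU : U = ⨆ i : Fin fs.length, X.basicOpen (fs.get i)) (q : ℕ) (hq : 1 ≤ q) :
    Nonempty (Coh.HHon X F U q ≃+ CohIII.koszulHLim fs (ModuleCat.of Γ(X, ⊤) (Sch.Top F)) (q + 1)) := by
  have hle : ∀ i : SchLow.idx fs, X.basicOpen (SchLow.mem' fs i) ≤ U := fun i =>
    hU ▸ le_iSup (fun i : Fin fs.length => X.basicOpen (fs.get i)) i.down
  let V : SchLow.idx fs → (U : Scheme.{u}).Opens := fun i => U.ι ⁻¹ᵁ X.basicOpen (SchLow.mem' fs i)
  have hcov : ⨆ i, V i = ⊤ := by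
    refine eq_top_iff.2 fun x _ => ?_
    have hx : x.1 ∈ (⨆ i : Fin fs.length, X.basicOpen (fs.get i) : X.Opens) := hU ▸ x.2
    obtain ⟨i, hi⟩ := Opens.mem_iSup.1 hx
    exact Opens.mem_iSup.2 ⟨⟨i⟩, hi⟩
  obtain ⟨e⟩ := Groth.Agent.Lib.Cech.Compare.nonempty_cechH_addEquiv_H (U := V) hcov q
    (Coh.toAb (F.restrict U.ι)) fun p t n => by
      refine Groth.Agent.Lib.ZarCoh.Affine.HU_subsingleton (F.restrict U.ι) ?_ n
      rw [← U.ι.isAffineOpen_iff_of_isOpenImmersion, (Sch.modelOn (F := F) U (SchLow.mem' fs) hle).inter_eq t,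
        Fin.prod_univ_succ, Scheme.basicOpen_mul]
      have : X.basicOpen (SchLow.mem' fs (t 0)) ⊓ X.basicOpen (∏ j : Fin p, SchLow.mem' fs (t j.succ)) =
          X.basicOpen (Groth.Agent.Lib.QCoh.Localizing.resR (X.basicOpen_le (SchLow.mem' fs (t 0)))
            (∏ j : Fin p, SchLow.mem' fs (t j.succ))) :=
        (Scheme.basicOpen_res X _ _).symm
      rw [this]
      exact (haff (t 0).down).basicOpen _
  obtain ⟨e'⟩ := SchLow.nonempty_cech F fs (Sch.modelOn (F := F) U (SchLow.mem' fs) hle) q hq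
  exact ⟨(AddEquiv.refl _).trans (e.symm.trans e')⟩

end Groth.Agent.Lib.Koszul.Stable.SchHH
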