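import Groth.Agent.Lib.FlatCx.Elem
import Mathlib.Algebra.Homology.HomologicalComplexAbelian
import Mathlib.Algebra.Homology.HomologySequence
import Mathlib.Algebra.Module.LocalizedModule.Basic
import Mathlib.Algebra.Module.LocalizedModule.Exact
import Mathlib.Data.Fin.Parity
import Mathlib.Algebra.BigOperators.Fin

/-!
# The augmented Cech complex of the localisations of a module

In degree `q` it is `Π t : Fin q → ι, M_{s (t 0) ⋯ s (t (q-1))}`.
-/

universe u

open CategoryTheory CategoryTheory.Limits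

namespace Groth.Agent.Lib.Koszul.Stable.Cech

open Groth.Agent.Lib.FlatCx

variable {A : Type u} [CommRing A]

/-- The localisation at the powers of an element. -/
abbrev L (a : A) (M : Type u) [AddCommGroup M] [Module A M] : Type u :=
  LocalizedModule (Submonoid.powers a) M

variable {M : Type u} [AddCommGroup M] [Module A M]

/-- The canonical map. -/
noncomputable abbrev mk (a : A) (M : Type u) [AddCommGroup M] [Module A M] : M →ₗ[A] L a M :=
  LocalizedModule.mkLinearMap (Submonoid.powers a) M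

theorem isUnit_powers {a : A} {N : Type u} [AddCommGroup N] [Module A N]
    (h : IsUnit (algebraMap A (Module.End A N) a)) (x : Submonoid.powers a) :
    IsUnit (algebraMap A (Module.End A N) (x : A)) := by
  obtain ⟨k, hk⟩ := x.2
  rw [← hk, map_pow]
  exact h.pow k

theorem isUnit_of_dvd {a b : A} {N : Type u} [AddCommGroup N] [Module A N] (hab : a ∣ b)
    (h : IsUnit (algebraMap A (Module.End A N) b)) : IsUnit (algebraMap A (Module.End A N) a) := by
  obtain ⟨c, rfl⟩ := hab
  rw [map_mul] at h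
  exact ((Commute.isUnit_mul_iff ((Commute.all a c).map (algebraMap A (Module.End A N)))).1 h).1

theorem isUnit_self (a : A) : IsUnit (algebraMap A (Module.End A (L a M)) a) :=
  IsLocalizedModule.map_units (mk a M) ⟨a, Submonoid.mem_powers a⟩

/-- The restriction map. -/
noncomputable def ρ (a b : A) (h : IsUnit (algebraMap A (Module.End A (L b M)) a)) :
    L a M →ₗ[A] L b M :=
  IsLocalizedModule.lift (Submonoid.powers a) (mk a M) (mk b M) (isUnit_powers h)

theorem ρ_mk (a b : A) (h : IsUnit (algebraMap A (Module.End A (L b M)) a)) (x : M) :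
    ρ a b h (mk a M x) = mk b M x :=
  IsLocalizedModule.lift_apply _ _ _ _ _

theorem ρ_ρ (a b c : A) (h : IsUnit (algebraMap A (Module.End A (L b M)) a))
    (h' : IsUnit (algebraMap A (Module.End A (L c M)) b))
    (h'' : IsUnit (algebraMap A (Module.End A (L c M)) a)) (x : L a M) :
    ρ b c h' (ρ a b h x) = ρ a c h'' x := by
  refine LinearMap.congr_fun (IsLocalizedModule.ext (Submonoid.powers a) (mk a M)
    (isUnit_powers h'') (j := ρ b c h' ∘ₗ ρ a b h) (k := ρ a c h'') ?_) x
  ext m
  simp only [LinearMap.comp_apply, ρ_mk]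

theorem ρ_self (a : A) (h : IsUnit (algebraMap A (Module.End A (L a M)) a)) (x : L a M) :
    ρ a a h x = x := by
  refine LinearMap.congr_fun (IsLocalizedModule.ext (Submonoid.powers a) (mk a M)
    (isUnit_powers h) (j := ρ a a h) (k := LinearMap.id) ?_) x
  ext m
  simp only [LinearMap.comp_apply, ρ_mk, LinearMap.id_apply]

section map

variable {N P : Type u} [AddCommGroup N] [Module A N] [AddCommGroup P] [Module A P]

/-- Functoriality. -/
noncomputable def mapL (g : M →ₗ[A] N) (a : A) : L a M →ₗ[A] L a N :=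
  IsLocalizedModule.map (Submonoid.powers a) (mk a M) (mk a N) g

theorem mapL_mk (g : M →ₗ[A] N) (a : A) (x : M) : mapL g a (mk a M x) = mk a N (g x) :=
  IsLocalizedModule.map_apply _ _ _ _ _

theorem mapL_eq {g : M →ₗ[A] N} {a : A} {φ : L a M →ₗ[A] L a N}
    (h : ∀ x, φ (mk a M x) = mk a N (g x)) : mapL g a = φ :=
  IsLocalizedModule.ext (Submonoid.powers a) (mk a M) (isUnit_powers (isUnit_self a))
    (LinearMap.ext fun x => (mapL_mk g a x).trans (h x).symm)

theorem mapL_id (a : A) : mapL (LinearMap.id : M →ₗ[A] M) a = LinearMap.id :=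
  mapL_eq fun _ => rfl

theorem mapL_comp (g : M →ₗ[A] N) (h : N →ₗ[A] P) (a : A) :
    mapL (h ∘ₗ g) a = mapL h a ∘ₗ mapL g a :=
  mapL_eq fun x => by rw [LinearMap.comp_apply, mapL_mk, mapL_mk]; rfl

theorem mapL_add (g h : M →ₗ[A] N) (a : A) : mapL (g + h) a = mapL g a + mapL h a :=
  mapL_eq fun x => by rw [LinearMap.add_apply, mapL_mk, mapL_mk, ← map_add]; rfl

theorem mapL_zero (a : A) : mapL (0 : M →ₗ[A] N) a = 0 :=
  mapL_eq fun x => by simp

theorem mapL_smul (c : A) (g : M →ₗ[A] N) (a : A) : mapL (c • g) a = c • mapL g a :=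
  mapL_eq fun x => by rw [LinearMap.smul_apply, mapL_mk, ← map_smul]; rfl

theorem mapL_ρ (g : M →ₗ[A] N) (a b : A) (h : IsUnit (algebraMap A (Module.End A (L b M)) a))
    (h' : IsUnit (algebraMap A (Module.End A (L b N)) a)) (x : L a M) :
    mapL g b (ρ a b h x) = ρ a b h' (mapL g a x) := by
  refine LinearMap.congr_fun (IsLocalizedModule.ext (Submonoid.powers a) (mk a M)
    (isUnit_powers h') (j := mapL g b ∘ₗ ρ a b h) (k := ρ a b h' ∘ₗ mapL g a) ?_) x
  ext m
  simp only [LinearMap.comp_apply, ρ_mk, mapL_mk]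

end map

theorem isUnit_L {c : A} (a : A) (h : Function.Bijective (fun x : M => c • x)) :
    IsUnit (algebraMap A (Module.End A (L a M)) c) := by
  let e : M ≃ₗ[A] M := LinearEquiv.ofBijective (c • LinearMap.id) h
  refine ⟨⟨algebraMap A _ c, mapL e.symm.toLinearMap a, ?_, ?_⟩, rfl⟩
  · show algebraMap A (Module.End A (L a M)) c * _ = 1
    rw [Algebra.algebraMap_eq_smul_one, smul_mul_assoc, one_mul, ← mapL_smul]
    refine mapL_eq fun x => ?_
    exact congrArg (mk a M) (e.apply_symm_apply x).symm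
  · show _ * algebraMap A (Module.End A (L a M)) c = 1
    rw [Algebra.algebraMap_eq_smul_one, mul_smul_comm, mul_one, ← mapL_smul]
    refine mapL_eq fun x => ?_
    exact congrArg (mk a M) (e.apply_symm_apply x).symm

section complex

variable {ι : Type u} (s : ι → A)

/-- The product over a tuple. -/
abbrev pr {q : ℕ} (t : Fin q → ι) : A := ∏ j, s (t j)

theorem dvd_pr {q : ℕ} (t : Fin q → ι) (j : Fin q) : s (t j) ∣ pr s t :=
  Finset.dvd_prod_of_mem _ (Finset.mem_univ j)

theorem pr_comp_dvd {p q : ℕ} (t : Fin q → ι) (e : Fin p → Fin q) (he : Function.Injective e) :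
    pr s (t ∘ e) ∣ pr s t := by
  classical
  refine ⟨∏ j ∈ Finset.univ \ Finset.univ.image e, s (t j), ?_⟩
  show _ = (∏ j, s (t (e j))) * _
  rw [← Finset.prod_image (g := e) (f := fun j => s (t j)) (fun x _ y _ h => he h), mul_comm,
    Finset.prod_sdiff (Finset.subset_univ _)]

variable (M)

/-- Cochains. -/
abbrev Cochain (q : ℕ) : Type u := ∀ t : Fin q → ι, L (pr s t) M

variable {M}

theorem unit_face {p q : ℕ} (t : Fin q → ι) (e : Fin p → Fin q) (he : Function.Injective e) :
    IsUnit (algebraMap A (Module.End A (L (pr s t) M)) (pr s (t ∘ e))) :=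
  isUnit_of_dvd (pr_comp_dvd s t e he) (isUnit_self _)

variable (M) in
/-- The differential. -/
noncomputable def dT (q : ℕ) : Cochain M s q →ₗ[A] Cochain M s (q + 1) :=
  LinearMap.pi fun t => ∑ j : Fin (q + 1), (-1 : A) ^ (j : ℕ) •
    (ρ (pr s (t ∘ j.succAbove)) (pr s t) (unit_face s t _ Fin.succAbove_right_injective) ∘ₗ
      LinearMap.proj (t ∘ j.succAbove))

theorem dT_apply (q : ℕ) (c : Cochain M s q) (t : Fin (q + 1) → ι) :
    dT M s q c t = ∑ j : Fin (q + 1), (-1 : A) ^ (j : ℕ) •
      ρ (pr s (t ∘ j.succAbove)) (pr s t) (unit_face s t _ Fin.succAbove_right_injective)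
        (c (t ∘ j.succAbove)) := by
  simp [dT, LinearMap.sum_apply]

theorem ρ_congr {q : ℕ} (c : Cochain M s q) {u u' : Fin q → ι} (h : u = u') (b : A)
    (hu : IsUnit (algebraMap A (Module.End A (L b M)) (pr s u)))
    (hu' : IsUnit (algebraMap A (Module.End A (L b M)) (pr s u'))) :
    ρ (pr s u) b hu (c u) = ρ (pr s u') b hu' (c u') := by
  subst h; rfl

theorem sum_face_face {q : ℕ} {N : Type u} [AddCommGroup N] [Module A N]
    (G : (Fin q → Fin (q + 2)) → N) :
    ∑ i : Fin (q + 2), ∑ j : Fin (q + 1),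
      ((-1 : A) ^ ((i : ℕ) + (j : ℕ))) • G (i.succAbove ∘ j.succAbove) = 0 := by
  rw [← Finset.sum_product']
  refine Finset.sum_involution (fun x _ => (x.1.succAbove x.2, x.2.predAbove x.1)) ?_ ?_
    (fun x _ => Finset.mem_univ _) ?_
  · rintro ⟨i, j⟩ -
    have : (i.succAbove j).succAbove ∘ (j.predAbove i).succAbove = i.succAbove ∘ j.succAbove :=
      funext fun k => Fin.succAbove_succAbove_succAbove_predAbove i j k
    dsimp only
    rw [this, Fin.neg_one_pow_succAbove_add_predAbove, neg_smul, add_neg_cancel]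
  · rintro ⟨i, j⟩ - - h
    exact Fin.succAbove_ne i j (congrArg Prod.fst h)
  · rintro ⟨i, j⟩ -
    exact Prod.ext (Fin.succAbove_succAbove_predAbove i j)
      (Fin.predAbove_predAbove_succAbove i j)

theorem dT_dT (q : ℕ) (c : Cochain M s q) : dT M s (q + 1) (dT M s q c) = 0 := by
  classical
  funext t
  let G : (Fin q → Fin (q + 2)) → L (pr s t) M := fun e =>
    if h : Function.Injective e then ρ _ _ (unit_face s t e h) (c (t ∘ e)) else 0
  rw [dT_apply]
  refine Eq.trans ?_ (sum_face_face (A := A) G)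
  refine Finset.sum_congr rfl fun i _ => ?_
  rw [dT_apply, map_sum, Finset.smul_sum]
  refine Finset.sum_congr rfl fun j _ => ?_
  have hij : Function.Injective (i.succAbove ∘ j.succAbove) :=
    Fin.succAbove_right_injective.comp Fin.succAbove_right_injective
  rw [map_smul, smul_smul, ← pow_add]
  refine congrArg _ ?_
  simp only [G, dif_pos hij]
  exact ρ_ρ _ _ _ _ _ _ _

variable (M) in
/-- The augmented Cech complex. -/
noncomputable def T : CochainComplex (ModuleCat.{u} A) ℕ :=
  CochainComplex.of (fun q => ModuleCat.of A (Cochain M s q))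
    (fun q => ModuleCat.ofHom (dT M s q))
    (fun q => ModuleCat.hom_ext (LinearMap.ext (dT_dT s q)))

theorem T_d (q : ℕ) : (T M s).d q (q + 1) = ModuleCat.ofHom (dT M s q) :=
  CochainComplex.of_d (fun q => ModuleCat.of A (Cochain M s q))
    (fun q => ModuleCat.ofHom (dT M s q)) q

theorem T_d_apply (q : ℕ) (c : Cochain M s q) : (T M s).d q (q + 1) c = dT M s q c := by
  rw [T_d]; rfl

theorem next_nat (q : ℕ) : (ComplexShape.up ℕ).next q = q + 1 := CochainComplex.next ℕ q

theorem prev_nat (q : ℕ) : (ComplexShape.up ℕ).prev (q + 1) = q :=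
  (ComplexShape.up ℕ).prev_eq' rfl

/-- If a member acts bijectively, the complex is exact. -/
theorem subsingleton_of_bijective (k : ι) (hb : Function.Bijective (fun x : M => s k • x)) (p : ℕ) :
    Subsingleton ((T M s).homology p) := by
  have hu : ∀ {q : ℕ} (t : Fin q → ι),
      IsUnit (algebraMap A (Module.End A (L (pr s t) M)) (pr s (Fin.cons k t : Fin (q + 1) → ι))) := by
    intro q t
    rw [show pr s (Fin.cons k t : Fin (q + 1) → ι) = s k * pr s t by
      simp [pr, Fin.prod_univ_succ]]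
    rw [map_mul]
    exact (isUnit_L _ hb).mul (isUnit_self _)
  let h : ∀ q, Cochain M s (q + 1) → Cochain M s q := fun q c t => ρ _ _ (hu t) (c (Fin.cons k t))
  have key : ∀ q (c : Cochain M s q) (t : Fin q → ι),
      ρ _ _ (hu t) (dT M s q c (Fin.cons k t)) = c t +
        ∑ j : Fin q, (-1 : A) ^ ((j : ℕ) + 1) •
          ρ _ (pr s t) (isUnit_of_dvd (pr_comp_dvd s (Fin.cons k t : Fin (q + 1) → ι) j.succ.succAbove
            Fin.succAbove_right_injective) (hu t)) (c ((Fin.cons k t : Fin (q + 1) → ι) ∘ j.succ.succAbove)) := by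
    intro q c t
    rw [dT_apply, map_sum, Fin.sum_univ_succ]
    refine congrArg₂ (· + ·) ?_ (Finset.sum_congr rfl fun j _ => ?_)
    · have e : (Fin.cons k t : Fin (q + 1) → ι) ∘ (0 : Fin (q + 1)).succAbove = t := by
        funext a; simp
      rw [map_smul, Fin.val_zero, pow_zero, one_smul, ρ_ρ _ _ _ _ _
        (isUnit_of_dvd (pr_comp_dvd s _ _ Fin.succAbove_right_injective) (hu t))]
      rw [ρ_congr s c e _ _ (isUnit_self _), ρ_self]
    · rw [map_smul, Fin.val_succ]
      refine congrArg _ ?_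
      exact ρ_ρ _ _ _ _ _ _ _
  suffices hz : ∀ z : (T M s).homology p, z = 0 from ⟨fun a b => by rw [hz a, hz b]⟩
  intro z
  obtain ⟨⟨c, hc⟩, rfl⟩ := Elem.cls_surjective (next_nat p) z
  replace hc : dT M s p c = 0 := (T_d_apply s p c).symm.trans hc
  cases p with
  | zero =>
    have hc0 : c = 0 := by
      funext t
      have := key 0 c t
      rw [hc] at this
      show c t = 0
      simpa using this.symm
    subst hc0
    exact map_zero _
  | succ q =>
    refine (Elem.cls_eq_zero_iff (prev_nat q) (next_nat (q + 1)) _).2 ⟨h q c, ?_⟩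
    show (T M s).d q (q + 1) (h q c) = c
    rw [T_d_apply]
    funext t
    have e := key (q + 1) c t
    rw [hc] at e
    simp only [Pi.zero_apply, map_zero] at e
    rw [dT_apply, eq_neg_of_add_eq_zero_left e.symm, ← Finset.sum_neg_distrib]
    refine Finset.sum_congr rfl fun j _ => ?_
    rw [← neg_smul, pow_succ, mul_neg_one, neg_neg]
    refine congrArg _ ?_
    have e' : (Fin.cons k (t ∘ j.succAbove) : Fin (q + 1) → ι) =
        (Fin.cons k t : Fin (q + 2) → ι) ∘ j.succ.succAbove := by
      funext a; cases a using Fin.cases <;> simp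
    refine (ρ_ρ _ _ _ _ _ ?_ _).trans (ρ_congr s c e' _ _ _)
    rw [e']
    exact isUnit_of_dvd (pr_comp_dvd s _ _ Fin.succAbove_right_injective) (hu t)

/-- A torsion module has no higher cohomology. -/
theorem subsingleton_of_torsion (hM : ∀ (x : M) (i : ι), ∃ k : ℕ, s i ^ k • x = 0) {p : ℕ} (hp : p ≠ 0) :
    Subsingleton ((T M s).homology p) := by
  obtain ⟨q, rfl⟩ := Nat.exists_eq_succ_of_ne_zero hp
  have h : Subsingleton ((T M s).X (q + 1)) := by
    show Subsingleton (Cochain M s (q + 1))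
    suffices h : ∀ (t : Fin (q + 1) → ι) (x : L (pr s t) M), x = 0 from
      ⟨fun a b => funext fun t => (h t _).trans (h t _).symm⟩
    intro t x
    obtain ⟨⟨m, a⟩, hx⟩ := IsLocalizedModule.surj (Submonoid.powers (pr s t)) (mk (pr s t) M) x
    obtain ⟨k, hk⟩ := hM m (t 0)
    obtain ⟨d, hd⟩ := dvd_pr s t 0
    have h0 : mk (pr s t) M m = 0 :=
      (IsLocalizedModule.eq_zero_iff (Submonoid.powers (pr s t)) _).2
        ⟨⟨pr s t ^ k, k, rfl⟩, by
          show pr s t ^ k • m = 0
          rw [hd, mul_comm, mul_pow, mul_smul, hk, smul_zero]⟩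
    exact ((Module.End.isUnit_iff _).1 (IsLocalizedModule.map_units (mk (pr s t) M) a)).1
      ((hx.trans h0).trans (map_zero _).symm)
  refine ⟨fun a b => ?_⟩
  obtain ⟨a', rfl⟩ := Elem.cls_surjective (next_nat (q + 1)) a
  obtain ⟨b', rfl⟩ := Elem.cls_surjective (next_nat (q + 1)) b
  exact congrArg _ (Subtype.ext (h.elim _ _))

theorem mem_ker_zero_iff (x : M) (t : Fin 0 → ι) :
    (dT M s 0 fun u => mk (pr s u) M x) = 0 ↔ ∀ i, ∃ k : ℕ, s i ^ k • x = 0 := by
  have hd : ∀ u : Fin 1 → ι, dT M s 0 (fun u => mk (pr s u) M x) u = mk (pr s u) M x := fun u => by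
    rw [dT_apply, Fin.sum_univ_one, Fin.val_zero, pow_zero, one_smul, ρ_mk]
  constructor
  · intro h i
    have := (congr_fun h (fun _ => i)).symm.trans (hd _)
    obtain ⟨⟨_, k, rfl⟩, hk⟩ := (IsLocalizedModule.eq_zero_iff
      (Submonoid.powers (pr s fun _ : Fin 1 => i)) _).1 this.symm
    refine ⟨k, ?_⟩
    rwa [show pr s (fun _ : Fin 1 => i) = s i from Fin.prod_univ_one _] at hk
  · intro h
    funext u
    rw [hd]
    obtain ⟨k, hk⟩ := h (u 0)
    refine (IsLocalizedModule.eq_zero_iff (Submonoid.powers (pr s u)) _).2 ⟨⟨_, k, rfl⟩, ?_⟩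
    show pr s u ^ k • x = 0
    rwa [show pr s u = s (u 0) from Fin.prod_univ_one _]

variable (M) in
theorem bijective_const : Function.Bijective
    (LinearMap.pi fun t : Fin 0 → ι => mk (pr s t) M) := by
  have h1 : ∀ t : Fin 0 → ι, pr s t = 1 := fun t => Fin.prod_univ_zero _
  constructor
  · intro x y h
    have := congr_fun h Fin.elim0
    change mk (pr s Fin.elim0) M x = mk (pr s Fin.elim0) M y at this
    obtain ⟨⟨_, k, rfl⟩, hk⟩ := (IsLocalizedModule.eq_iff_exists (Submonoid.powers
      (pr s Fin.elim0)) _).1 this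
    simpa [Submonoid.smul_def, h1] using hk
  · intro c
    obtain ⟨⟨m, ⟨_, k, rfl⟩⟩, hm⟩ := IsLocalizedModule.surj (Submonoid.powers (pr s Fin.elim0))
      (mk (pr s Fin.elim0) M) (c Fin.elim0)
    refine ⟨m, funext fun t => ?_⟩
    obtain rfl : t = Fin.elim0 := Subsingleton.elim _ _
    show mk _ M m = c Fin.elim0
    rw [← hm, Submonoid.smul_def]
    show (pr s Fin.elim0 : A) ^ k • c Fin.elim0 = c Fin.elim0
    exact (congrArg (fun a : A => a • c Fin.elim0)
      (by rw [h1, one_pow] : pr s Fin.elim0 ^ k = 1)).trans (one_smul _ _)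

variable (M) in
/-- `H^0` is the torsion. -/
theorem nonempty_homology_zero (G : Submodule A M)
    (hG : ∀ x, x ∈ G ↔ ∀ i, ∃ k : ℕ, s i ^ k • x = 0) :
    Nonempty ((T M s).homology 0 ≃ₗ[A] G) := by
  let ψ : G →ₗ[A] LinearMap.ker ((T M s).d 0 (0 + 1)).hom :=
    ((LinearMap.pi fun t : Fin 0 → ι => mk (pr s t) M) ∘ₗ G.subtype).codRestrict _ fun x =>
      (T_d_apply s 0 _).trans ((mem_ker_zero_iff s x.1 Fin.elim0).2 ((hG x.1).1 x.2))
  have hinj : ∀ z : LinearMap.ker ((T M s).d 0 (0 + 1)).hom, Elem.cls (next_nat 0) z = 0 → z = 0 := by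
    intro z hz
    obtain ⟨y, hy⟩ := (Elem.cls_eq_zero_iff (CochainComplex.prev_nat_zero) (next_nat 0) z).1 hz
    refine Subtype.ext (hy.symm.trans ?_)
    rw [(T M s).shape 0 0 (by simp)]
    rfl
  refine ⟨(LinearEquiv.ofBijective (Elem.cls (next_nat 0) ∘ₗ ψ) ⟨?_, ?_⟩).symm⟩
  · rw [injective_iff_map_eq_zero]
    intro x hx
    exact Subtype.ext ((bijective_const M s).1 ((congrArg Subtype.val (hinj _ hx)).trans (map_zero _).symm))
  · intro h
    obtain ⟨⟨c, hc⟩, rfl⟩ := Elem.cls_surjective (next_nat 0) h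
    obtain ⟨x, rfl⟩ := (bijective_const M s).2 c
    exact ⟨⟨x, (hG x).2 ((mem_ker_zero_iff s x Fin.elim0).1 ((T_d_apply s 0 _).symm.trans hc))⟩, rfl⟩

section functor

variable {N P : Type u} [AddCommGroup N] [Module A N] [AddCommGroup P] [Module A P]

/-- Functoriality on cochains. -/
noncomputable def mapC (g : M →ₗ[A] N) (q : ℕ) : Cochain M s q →ₗ[A] Cochain N s q :=
  LinearMap.pi fun t => mapL g (pr s t) ∘ₗ LinearMap.proj t

/-- Functoriality. -/
noncomputable def mapT (g : M →ₗ[A] N) : T M s ⟶ T N s where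
  f q := ModuleCat.ofHom (mapC s g q)
  comm' := by
    rintro q _ rfl
    rw [T_d, T_d]
    refine ModuleCat.hom_ext (LinearMap.ext fun c => funext fun t => ?_)
    show dT N s q (mapC s g q c) t = mapL g (pr s t) (dT M s q c t)
    rw [dT_apply]
    refine Eq.trans ?_ (congrArg (mapL g (pr s t)) (dT_apply s q c t)).symm
    rw [map_sum]
    refine Finset.sum_congr rfl fun j _ => ?_
    rw [map_smul]
    exact congrArg _ (mapL_ρ g _ _ _ _ _).symm

theorem mapT_apply (g : M →ₗ[A] N) (q : ℕ) (c : Cochain M s q) (t : Fin q → ι) :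
    (mapT s g).f q c t = mapL g (pr s t) (c t) := rfl

/-- Finite products of acyclic modules are acyclic. -/
theorem subsingleton_pi {κ : Type u} [Fintype κ] (W : κ → Type u) [∀ i, AddCommGroup (W i)]
    [∀ i, Module A (W i)] (p : ℕ) (h : ∀ j, Subsingleton ((T (W j) s).homology p)) :
    Subsingleton ((T (∀ j, W j) s).homology p) := by
  classical
  suffices h : ∀ z : (T (∀ j, W j) s).homology p, z = 0 from ⟨fun a b => by rw [h a, h b]⟩
  intro z
  obtain ⟨⟨c, hc⟩, rfl⟩ := Elem.cls_surjective (next_nat p) z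
  have hm : ∀ {M N : Type u} [AddCommGroup M] [Module A M] [AddCommGroup N] [Module A N]
      (g : M →ₗ[A] N) {w : Cochain M s p}, (T M s).d p (p + 1) w = 0 →
      (mapT s g).f p w ∈ LinearMap.ker ((T N s).d p (p + 1)).hom := by
    intro M N _ _ _ _ g w hw
    show _ = 0
    exact ((ConcreteCategory.congr_hom ((mapT s g).comm p (p + 1)) w).trans
      (congrArg ((mapT s g).f (p + 1)).hom hw)).trans (map_zero ((mapT s g).f (p + 1)).hom)
  have h1 := fun j => hm (LinearMap.single A W j) (hm (LinearMap.proj j : (∀ j, W j) →ₗ[A] W j) hc)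
  have hid : ∀ (a : A) (x : L a (∀ j, W j)), x = ∑ j, mapL (LinearMap.single A W j) a
      (mapL (LinearMap.proj j : (∀ j, W j) →ₗ[A] W j) a x) := fun a x => by
    have : (∑ j, mapL (LinearMap.single A W j) a ∘ₗ mapL (LinearMap.proj j : (∀ j, W j) →ₗ[A] W j) a)
        = mapL LinearMap.id a := by
      refine (mapL_eq fun y => ?_).symm
      simp only [LinearMap.sum_apply, LinearMap.comp_apply, mapL_mk, LinearMap.id_apply, ← map_sum]
      exact congrArg _ (Finset.univ_sum_single y)
    conv_lhs => rw [← LinearMap.id_apply (R := A) x, ← mapL_id, ← this]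
    rw [LinearMap.sum_apply]
    rfl
  have key : (⟨c, hc⟩ : LinearMap.ker _) = ∑ j, (⟨_, h1 j⟩ : LinearMap.ker _) := by
    refine Subtype.ext ?_
    rw [Submodule.coe_sum]
    refine funext fun t => (hid _ (c t)).trans ?_
    exact (Finset.sum_apply t Finset.univ (fun j => ((mapT s (LinearMap.single A W j)).f p
      ((mapT s (LinearMap.proj j : (∀ j, W j) →ₗ[A] W j)).f p c) : Cochain (∀ j, W j) s p))).symm
  rw [key, map_sum]
  refine Finset.sum_eq_zero fun j _ => ?_
  rw [← Elem.homologyMap_cls (mapT s (LinearMap.single A W j)) (next_nat p)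
      ⟨_, hm (LinearMap.proj j : (∀ j, W j) →ₗ[A] W j) hc⟩ ⟨_, h1 j⟩ rfl,
    @Subsingleton.elim _ (h j) (Elem.cls (next_nat p) _) 0, map_zero]

variable (g : M →ₗ[A] N) (h : N →ₗ[A] P) (hg : Function.Injective g) (he : Function.Exact g h)
  (hh : Function.Surjective h)

/-- The short exact sequence of complexes. -/
noncomputable def short : ShortComplex (CochainComplex (ModuleCat.{u} A) ℕ) :=
  ShortComplex.mk (mapT s g) (mapT s h) (by
    ext q c
    refine funext fun t => ?_
    show mapL h _ (mapL g _ (c t)) = 0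
    rw [← LinearMap.comp_apply, ← mapL_comp, he.linearMap_comp_eq_zero, mapL_zero]
    rfl)

include hg hh in
theorem shortExact_short : (short s g h he).ShortExact := by
  refine HomologicalComplex.shortExact_of_degreewise_shortExact _ fun q =>
    { exact := ?_, mono_f := ?_, epi_g := ?_ }
  · rw [ShortComplex.moduleCat_exact_iff]
    intro (c : Cochain N s q) hc
    have := fun t => (IsLocalizedModule.map_exact (Submonoid.powers (pr s t)) (mk (pr s t) M) (mk (pr s t) N) (mk (pr s t) P)
      g h he (c t)).1 (congr_fun hc t)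
    choose y hy using this
    exact ⟨y, funext hy⟩
  · refine (ModuleCat.mono_iff_injective _).2 fun a b hab => funext fun t => ?_
    exact IsLocalizedModule.map_injective (Submonoid.powers (pr s t)) (mk (pr s t) M) (mk (pr s t) N) g hg
      (congr_fun hab t)
  · refine (ModuleCat.epi_iff_surjective _).2 fun (c : Cochain P s q) => ?_
    choose y hy using fun t => IsLocalizedModule.map_surjective (Submonoid.powers (pr s t)) (mk (pr s t) N)
      (mk (pr s t) P) h hh (c t)
    exact ⟨y, funext hy⟩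

include hg he hh in
theorem nonempty_equiv_of_middle_vanish (p : ℕ) (h0 : ∀ q, Subsingleton ((T N s).homology q)) :
    Nonempty ((T P s).homology p ≃ₗ[A] (T M s).homology (p + 1)) :=
  ⟨((shortExact_short s g h hg he hh).δIso p (p + 1) rfl
    (ModuleCat.isZero_iff_subsingleton.2 (h0 p))
    (ModuleCat.isZero_iff_subsingleton.2 (h0 (p + 1)))).toLinearEquiv⟩

include hg he hh in
theorem nonempty_equiv_of_left_vanish (p : ℕ) (h₀ : Subsingleton ((T M s).homology p))
    (h₁ : Subsingleton ((T M s).homology (p + 1))) :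
    Nonempty ((T N s).homology p ≃ₗ[A] (T P s).homology p) := by
  have hS := shortExact_short s g h hg he hh
  refine ⟨LinearEquiv.ofBijective (HomologicalComplex.homologyMap (mapT s h) p).hom
    ⟨(injective_iff_map_eq_zero _).2 fun z hz => ?_, fun z => ?_⟩⟩
  · obtain ⟨y, hy⟩ := (ShortComplex.moduleCat_exact_iff _).1 (hS.homology_exact₂ p) z hz
    rw [← hy, @Subsingleton.elim _ h₀ y 0]
    exact map_zero _
  · exact (ShortComplex.moduleCat_exact_iff _).1 (hS.homology_exact₃ p (p + 1) rfl) z
      (@Subsingleton.elim _ h₁ _ _)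

end functor

end complex

end Groth.Agent.Lib.Koszul.Stable.Cech
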