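import Groth.Agent.Lib.Koszul.Basic
import Mathlib.Algebra.Homology.HomologicalComplexAbelian

/-!
# `CohIII.koszulCx` as a functor of the module, and its transition maps, on elements
-/

universe u

open CategoryTheory CategoryTheory.Limits CochainComplex

namespace Groth.Agent.Lib.Koszul.Stable.Cx

open Groth.Agent.Lib.FlatCx Groth.Agent.Lib.Koszul.Cone Groth.Agent.Lib.Koszul.SmulCone

variable {A : Type u} [CommRing A]

/-- Functoriality of the Koszul complex in the module. -/
noncomputable def cxMap {M N : ModuleCat.{u} A} (g : M ⟶ N) :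
    ∀ l : List A, CohIII.koszulCx M l ⟶ CohIII.koszulCx N l
  | [] => (HomologicalComplex.single _ _ 0).map g
  | f :: l => smulConeMap f (cxMap g l)

/-- The base identification. -/
noncomputable def base (M : ModuleCat.{u} A) : (CohIII.koszulCx M []).X 0 ≃ₗ[A] M :=
  (HomologicalComplex.singleObjXSelf (ComplexShape.up ℤ) 0 M).toLinearEquiv

theorem subsingleton_base (M : ModuleCat.{u} A) {i : ℤ} (hi : i ≠ 0) :
    Subsingleton ((CohIII.koszulCx M []).X i) :=
  ModuleCat.isZero_iff_subsingleton.1
    (HomologicalComplex.isZero_single_obj_X (ComplexShape.up ℤ) 0 M i hi)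

theorem base_cxMap {M N : ModuleCat.{u} A} (g : M ⟶ N) (z : (CohIII.koszulCx M []).X 0) :
    base N ((cxMap g []).f 0 z) = g (base M z) := by
  have h := HomologicalComplex.single_map_f_self (ComplexShape.up ℤ) 0 g
  show base N (((HomologicalComplex.single _ _ 0).map g).f 0 z) = _
  rw [h]
  show base N ((base N).symm (g (base M z))) = _
  rw [LinearEquiv.apply_symm_apply]

theorem cxMap_cmk {M N : ModuleCat.{u} A} (g : M ⟶ N) (f : A) (l : List A) (i : ℤ)
    (a : (CohIII.koszulCx M l).X (i + 1)) (b : (CohIII.koszulCx M l).X i) :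
    (cxMap g (f :: l)).f i (cmk (f • 𝟙 (CohIII.koszulCx M l)) i (i + 1) rfl (a, b)) =
      cmk (f • 𝟙 (CohIII.koszulCx N l)) i (i + 1) rfl ((cxMap g l).f (i + 1) a, (cxMap g l).f i b) :=
  map_cmk (f • 𝟙 _) (f • 𝟙 _) (cxMap g l) (cxMap g l)
    (by rw [Linear.smul_comp, Linear.comp_smul, Category.id_comp, Category.comp_id]) i (i + 1) rfl a b

theorem trans_cmk (M : ModuleCat.{u} A) (n m : ℕ) (h : n ≤ m) (f : A) (l : List A) (i : ℤ)
    (a : (CohIII.koszulCx M (l.map (· ^ n))).X (i + 1))
    (b : (CohIII.koszulCx M (l.map (· ^ n))).X i) :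
    (CohIII.koszulTrans M n m h (f :: l)).f i
        (cmk (f ^ n • 𝟙 (CohIII.koszulCx M (l.map (· ^ n)))) i (i + 1) rfl (a, b)) =
      cmk (f ^ m • 𝟙 (CohIII.koszulCx M (l.map (· ^ m)))) i (i + 1) rfl
        ((CohIII.koszulTrans M n m h l).f (i + 1) a,
          f ^ (m - n) • (CohIII.koszulTrans M n m h l).f i b) :=
  map_cmk _ _ _ _ _ _ _ _ a b

/-- Extensionality for linear statements on a cone. -/
theorem cases_cmk {K L : CochainComplex (ModuleCat.{u} A) ℤ} (φ : K ⟶ L) (i : ℤ)
    {p : (mappingCone φ).X i → Prop} (h : ∀ a b, p (cmk φ i (i + 1) rfl (a, b))) (z) : p z := by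
  obtain ⟨⟨a, b⟩, rfl⟩ := cmk_surjective φ i (i + 1) rfl z
  exact h a b

theorem cxMap_comp {M N P : ModuleCat.{u} A} (g : M ⟶ N) (h : N ⟶ P) :
    ∀ (l : List A) (i : ℤ) (z : (CohIII.koszulCx M l).X i),
      (cxMap h l).f i ((cxMap g l).f i z) = (cxMap (g ≫ h) l).f i z
  | [], i, z => by
    show _ = ((HomologicalComplex.single _ _ 0).map (g ≫ h)).f i z
    rw [Functor.map_comp]; rfl
  | f :: l, i, z => by
    induction z using cases_cmk with
    | h a b => rw [cxMap_cmk, cxMap_cmk, cxMap_cmk, cxMap_comp g h l, cxMap_comp g h l]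

theorem cxMap_id (M : ModuleCat.{u} A) :
    ∀ (l : List A) (i : ℤ) (z : (CohIII.koszulCx M l).X i), (cxMap (𝟙 M) l).f i z = z
  | [], i, z => by
    show ((HomologicalComplex.single _ _ 0).map (𝟙 M)).f i z = z
    rw [CategoryTheory.Functor.map_id]; rfl
  | f :: l, i, z => by
    induction z using cases_cmk with
    | h a b => rw [cxMap_cmk, cxMap_id M l, cxMap_id M l]

theorem cxMap_add {M N : ModuleCat.{u} A} (g h : M ⟶ N) :
    ∀ (l : List A) (i : ℤ) (z : (CohIII.koszulCx M l).X i),
      (cxMap (g + h) l).f i z = (cxMap g l).f i z + (cxMap h l).f i z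
  | [], i, z => by
    show ((HomologicalComplex.single _ _ 0).map (g + h)).f i z = _
    rw [Functor.map_add]; rfl
  | f :: l, i, z => by
    induction z using cases_cmk with
    | h a b =>
      rw [cxMap_cmk, cxMap_cmk, cxMap_cmk, cxMap_add g h l, cxMap_add g h l]
      exact map_add (cmk (f • 𝟙 (CohIII.koszulCx N l)) i (i + 1) rfl) (_, _) (_, _)

theorem cxMap_smul {M N : ModuleCat.{u} A} (c : A) (g : M ⟶ N) :
    ∀ (l : List A) (i : ℤ) (z : (CohIII.koszulCx M l).X i),
      (cxMap (c • g) l).f i z = c • (cxMap g l).f i z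
  | [], i, z => by
    rcases eq_or_ne i 0 with rfl | hi
    · apply (base N).injective
      rw [map_smul, base_cxMap, base_cxMap]
      rfl
    · exact @Subsingleton.elim _ (subsingleton_base N hi) _ _
  | f :: l, i, z => by
    induction z using cases_cmk with
    | h a b =>
      rw [cxMap_cmk, cxMap_cmk, cxMap_smul c g l, cxMap_smul c g l]
      exact map_smul (cmk (f • 𝟙 (CohIII.koszulCx N l)) i (i + 1) rfl) c (_, _)

theorem trans_refl (M : ModuleCat.{u} A) (n : ℕ) :
    ∀ (l : List A) (i : ℤ) (z : (CohIII.koszulCx M (l.map (· ^ n))).X i),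
      (CohIII.koszulTrans M n n le_rfl l).f i z = z
  | [], _, _ => rfl
  | f :: l, i, z => by
    induction z using cases_cmk with
    | h a b =>
      rw [trans_cmk, trans_refl M n l, trans_refl M n l, Nat.sub_self, pow_zero, one_smul]

theorem trans_trans (M : ModuleCat.{u} A) (n m k : ℕ) (h : n ≤ m) (h' : m ≤ k) :
    ∀ (l : List A) (i : ℤ) (z : (CohIII.koszulCx M (l.map (· ^ n))).X i),
      (CohIII.koszulTrans M m k h' l).f i ((CohIII.koszulTrans M n m h l).f i z) =
        (CohIII.koszulTrans M n k (h.trans h') l).f i z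
  | [], _, _ => rfl
  | f :: l, i, z => by
    induction z using cases_cmk with
    | h a b =>
      rw [trans_cmk, trans_cmk, trans_cmk, map_smul, trans_trans M n m k h h' l,
        trans_trans M n m k h h' l, smul_smul, ← pow_add,
        show k - m + (m - n) = k - n by omega]

theorem trans_natural {M N : ModuleCat.{u} A} (g : M ⟶ N) (n m : ℕ) (h : n ≤ m) :
    ∀ (l : List A) (i : ℤ) (z : (CohIII.koszulCx M (l.map (· ^ n))).X i),
      (CohIII.koszulTrans N n m h l).f i ((cxMap g (l.map (· ^ n))).f i z) =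
        (cxMap g (l.map (· ^ m))).f i ((CohIII.koszulTrans M n m h l).f i z)
  | [], _, _ => rfl
  | f :: l, i, z => by
    induction z using cases_cmk with
    | h a b =>
      show (CohIII.koszulTrans N n m h (f :: l)).f i ((cxMap g (f ^ n :: l.map (· ^ n))).f i _) =
        (cxMap g (f ^ m :: l.map (· ^ m))).f i _
      rw [cxMap_cmk, trans_cmk, trans_cmk, cxMap_cmk, trans_natural g n m h l,
        trans_natural g n m h l, map_smul]

theorem subsingleton_X_of_lt (M : ModuleCat.{u} A) :
    ∀ (l : List A) (i : ℤ), i < -(l.length : ℤ) → Subsingleton ((CohIII.koszulCx M l).X i)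
  | [], i, hi => subsingleton_base M (by simpa using hi.ne)
  | f :: l, i, hi => ⟨fun x y => by
      rw [List.length_cons] at hi
      exact ext (f • 𝟙 (CohIII.koszulCx M l)) (rfl : i + 1 = i + 1)
        (@Subsingleton.elim _ (subsingleton_X_of_lt M l (i + 1) (by omega)) _ _)
        (@Subsingleton.elim _ (subsingleton_X_of_lt M l i (by omega)) _ _)⟩

/-- Projection to the bottom coordinate. -/
noncomputable def bot (M : ModuleCat.{u} A) :
    ∀ (l : List A) (i : ℤ), i = -(l.length : ℤ) → ((CohIII.koszulCx M l).X i →ₗ[A] M)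
  | [], i, hi => (base M).toLinearMap ∘ₗ
      (eqToHom (congrArg (CohIII.koszulCx M []).X (show i = 0 by simpa using hi))).hom
  | f :: l, i, hi => bot M l (i + 1) (by rw [hi, List.length_cons]; push_cast; ring) ∘ₗ
      cfst (f • 𝟙 (CohIII.koszulCx M l)) i (i + 1) rfl

theorem bot_bijective (M : ModuleCat.{u} A) :
    ∀ (l : List A) (i : ℤ) (hi : i = -(l.length : ℤ)), Function.Bijective (bot M l i hi)
  | [], i, hi => by
    obtain rfl : i = 0 := by simpa using hi
    exact (base M).bijective
  | f :: l, i, hi => by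
    have h1 : i + 1 = -(l.length : ℤ) := by rw [hi, List.length_cons]; push_cast; ring
    have hs : Subsingleton ((CohIII.koszulCx M l).X i) := subsingleton_X_of_lt M l i (by omega)
    refine ⟨fun x y h => ext (f • 𝟙 (CohIII.koszulCx M l)) (rfl : i + 1 = i + 1)
      ((bot_bijective M l (i + 1) h1).1 h) (Subsingleton.elim _ _), fun x => ?_⟩
    obtain ⟨a, ha⟩ := (bot_bijective M l (i + 1) h1).2 x
    refine ⟨cmk _ i (i + 1) rfl (a, 0), ?_⟩
    show bot M l (i + 1) h1 (cfst _ i (i + 1) rfl _) = x
    rw [cfst_cmk]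
    exact ha

theorem bot_cxMap {M N : ModuleCat.{u} A} (g : M ⟶ N) :
    ∀ (l : List A) (i : ℤ) (hi : i = -(l.length : ℤ)) (z : (CohIII.koszulCx M l).X i),
      bot N l i hi ((cxMap g l).f i z) = g (bot M l i hi z)
  | [], i, hi, z => by
    obtain rfl : i = 0 := by simpa using hi
    exact base_cxMap g z
  | f :: l, i, hi, z => by
    induction z using cases_cmk with
    | h a b =>
      show bot N l (i + 1) _ (cfst _ i (i + 1) rfl _) = g (bot M l (i + 1) _ (cfst _ i (i + 1) rfl _))
      rw [cxMap_cmk, cfst_cmk, cfst_cmk]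
      exact bot_cxMap g l (i + 1) _ a

theorem bot_trans (M : ModuleCat.{u} A) (n m : ℕ) (h : n ≤ m) :
    ∀ (l : List A) (i : ℤ) (hn : i = -((l.map (· ^ n)).length : ℤ))
      (hm : i = -((l.map (· ^ m)).length : ℤ))
      (z : (CohIII.koszulCx M (l.map (· ^ n))).X i),
      bot M (l.map (· ^ m)) i hm ((CohIII.koszulTrans M n m h l).f i z) =
        bot M (l.map (· ^ n)) i hn z
  | [], i, hn, hm, z => rfl
  | f :: l, i, hn, hm, z => by
    induction z using cases_cmk with
    | h a b =>
      show bot M (l.map (· ^ m)) (i + 1) _ (cfst _ i (i + 1) rfl _) =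
        bot M (l.map (· ^ n)) (i + 1) _ (cfst _ i (i + 1) rfl _)
      rw [trans_cmk, cfst_cmk, cfst_cmk]
      exact bot_trans M n m h l (i + 1) _ _ a

theorem d_bot_eq_zero_iff (M : ModuleCat.{u} A) :
    ∀ (l : List A) (i : ℤ) (hi : i = -(l.length : ℤ)) (z : (CohIII.koszulCx M l).X i),
      (CohIII.koszulCx M l).d i (i + 1) z = 0 ↔ ∀ f ∈ l, f • bot M l i hi z = 0
  | [], i, hi, z => by
    refine iff_of_true ?_ (fun f hf => absurd hf (List.not_mem_nil))
    exact @Subsingleton.elim _ (subsingleton_base M (by simp at hi; omega)) _ _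
  | f :: l, i, hi, z => by
    have h1 : i + 1 = -(l.length : ℤ) := by rw [hi, List.length_cons]; push_cast; ring
    induction z using cases_cmk with
    | h a b =>
      have hs : Subsingleton ((CohIII.koszulCx M l).X i) := subsingleton_X_of_lt M l i (by omega)
      obtain rfl : b = 0 := Subsingleton.elim _ _
      have hb : bot M (f :: l) i hi (cmk (f • 𝟙 (CohIII.koszulCx M l)) i (i + 1) rfl (a, 0)) =
          bot M l (i + 1) h1 a := by
        show bot M l (i + 1) _ (cfst _ i (i + 1) rfl _) = _
        rw [cfst_cmk]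
      refine (d_eq_zero_iff (f • 𝟙 (CohIII.koszulCx M l)) i (i + 1) rfl a 0).trans ?_
      rw [map_zero, add_zero, map_smul_id, d_bot_eq_zero_iff M l (i + 1) h1 a, hb,
        List.forall_mem_cons, ← map_smul]
      constructor
      · rintro ⟨h2, h3⟩; exact ⟨by rw [h3, map_zero], h2⟩
      · rintro ⟨h2, h3⟩
        exact ⟨h3, (bot_bijective M l (i + 1) h1).1 (by rw [h2, map_zero])⟩

theorem exists_pow_smul_eq_zero {M : ModuleCat.{u} A} {g : A}
    (hg : ∀ x : M, ∃ k : ℕ, g ^ k • x = 0) :
    ∀ (l : List A) (i : ℤ) (z : (CohIII.koszulCx M l).X i), ∃ k : ℕ, g ^ k • z = 0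
  | [], i, z => by
    rcases eq_or_ne i 0 with rfl | hi
    · obtain ⟨k, hk⟩ := hg (base M z)
      exact ⟨k, (base M).injective (by rw [map_smul, hk, map_zero])⟩
    · exact ⟨0, @Subsingleton.elim _ (subsingleton_base M hi) _ _⟩
  | f :: l, i, z => by
    induction z using cases_cmk with
    | h a b =>
      obtain ⟨k, hk⟩ := exists_pow_smul_eq_zero hg l (i + 1) a
      obtain ⟨k', hk'⟩ := exists_pow_smul_eq_zero hg l i b
      refine ⟨k + k', ?_⟩
      refine (map_smul (cmk (f • 𝟙 (CohIII.koszulCx M l)) i (i + 1) rfl) _ (a, b)).symm.trans ?_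
      rw [Prod.smul_mk, pow_add]
      rw [show (g ^ k * g ^ k') • a = 0 by rw [mul_comm, mul_smul, hk, smul_zero],
        show (g ^ k * g ^ k') • b = 0 by rw [mul_smul, hk', smul_zero]]
      exact map_zero _

theorem exists_trans_eq_zero {M : ModuleCat.{u} A} :
    ∀ (l : List A) (_ : ∀ x : M, ∀ f ∈ l, ∃ k : ℕ, f ^ k • x = 0) (n : ℕ) (i : ℤ)
      (_ : i ≠ -(l.length : ℤ)) (z : (CohIII.koszulCx M (l.map (· ^ n))).X i),
      ∃ m, ∃ h : n ≤ m, (CohIII.koszulTrans M n m h l).f i z = 0
  | [], _, n, i, hi, z => ⟨n, le_rfl, @Subsingleton.elim _ (subsingleton_base M (by simpa using hi)) _ _⟩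
  | f :: l, hT, n, i, hi, z => by
    rw [List.length_cons] at hi
    induction z using cases_cmk with
    | h a b =>
      obtain ⟨m, hm, ha⟩ := exists_trans_eq_zero l (fun x g hg => hT x g (List.mem_cons_of_mem _ hg))
        n (i + 1) (by omega) a
      obtain ⟨k, hk⟩ := exists_pow_smul_eq_zero (fun x => hT x f List.mem_cons_self)
        (l.map (· ^ n)) i b
      refine ⟨max m (n + k), hm.trans (le_max_left _ _), ?_⟩
      rw [trans_cmk]
      have e1 : (CohIII.koszulTrans M n (max m (n + k)) (hm.trans (le_max_left _ _)) l).f (i + 1) a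
          = 0 := by
        rw [← trans_trans M n m (max m (n + k)) hm (le_max_left _ _) l, ha, map_zero]
      have e2 : f ^ (max m (n + k) - n) •
          (CohIII.koszulTrans M n (max m (n + k)) (hm.trans (le_max_left _ _)) l).f i b = 0 := by
        rw [← map_smul, show max m (n + k) - n = (max m (n + k) - (n + k)) + k by omega, pow_add,
          mul_smul, hk, smul_zero, map_zero]
      rw [e1, e2]
      exact map_zero _

theorem cxMap_f_injective {M N : ModuleCat.{u} A} (g : M ⟶ N) (hg : Function.Injective g) :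
    ∀ (l : List A) (i : ℤ), Function.Injective ((cxMap g l).f i)
  | [], i, x, y, h => by
    rcases eq_or_ne i 0 with rfl | hi
    · apply (base M).injective
      apply hg
      rw [← base_cxMap, ← base_cxMap, h]
    · exact @Subsingleton.elim _ (subsingleton_base M hi) _ _
  | f :: l, i, x, y, h => by
    induction x using cases_cmk with
    | h a b => induction y using cases_cmk with
      | h a' b' =>
        rw [cxMap_cmk, cxMap_cmk] at h
        have h1 := congrArg (cfst _ i (i + 1) rfl) h
        have h2 := congrArg (csnd _ i) h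
        rw [cfst_cmk, cfst_cmk] at h1
        rw [csnd_cmk, csnd_cmk] at h2
        rw [cxMap_f_injective g hg l _ h1, cxMap_f_injective g hg l _ h2]

theorem cxMap_f_surjective {M N : ModuleCat.{u} A} (g : M ⟶ N) (hg : Function.Surjective g) :
    ∀ (l : List A) (i : ℤ), Function.Surjective ((cxMap g l).f i)
  | [], i, y => by
    rcases eq_or_ne i 0 with rfl | hi
    · obtain ⟨x, hx⟩ := hg (base N y)
      exact ⟨(base M).symm x, (base N).injective (by rw [base_cxMap, LinearEquiv.apply_symm_apply, hx])⟩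
    · exact ⟨0, @Subsingleton.elim _ (subsingleton_base N hi) _ _⟩
  | f :: l, i, y => by
    induction y using cases_cmk with
    | h a b =>
      obtain ⟨a, rfl⟩ := cxMap_f_surjective g hg l _ a
      obtain ⟨b, rfl⟩ := cxMap_f_surjective g hg l _ b
      exact ⟨_, cxMap_cmk g f l i a b⟩

theorem cxMap_f_exact {M N P : ModuleCat.{u} A} (g : M ⟶ N) (h : N ⟶ P)
    (he : Function.Exact g h) :
    ∀ (l : List A) (i : ℤ), Function.Exact ((cxMap g l).f i) ((cxMap h l).f i)
  | [], i, y => by
    rcases eq_or_ne i 0 with rfl | hi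
    · constructor
      · intro hy
        obtain ⟨x, hx⟩ := (he (base N y)).1 (by rw [← base_cxMap, hy, map_zero])
        exact ⟨(base M).symm x, (base N).injective (by rw [base_cxMap, LinearEquiv.apply_symm_apply, hx])⟩
      · rintro ⟨x, rfl⟩
        apply (base P).injective
        rw [map_zero, base_cxMap, base_cxMap]
        exact he.apply_apply_eq_zero _
    · exact iff_of_true (@Subsingleton.elim _ (subsingleton_base P hi) _ _)
        ⟨0, @Subsingleton.elim _ (subsingleton_base N hi) _ _⟩
  | f :: l, i, y => by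
    induction y using cases_cmk with
    | h a b =>
      rw [cxMap_cmk]
      constructor
      · intro hy
        have h1 := (congrArg (cfst (f • 𝟙 (CohIII.koszulCx P l)) i (i + 1) rfl) hy).trans (map_zero _)
        have h2 := (congrArg (csnd (f • 𝟙 (CohIII.koszulCx P l)) i) hy).trans (map_zero _)
        rw [cfst_cmk] at h1
        rw [csnd_cmk] at h2
        obtain ⟨a', rfl⟩ := (cxMap_f_exact g h he l _ a).1 h1
        obtain ⟨b', rfl⟩ := (cxMap_f_exact g h he l _ b).1 h2
        exact ⟨_, cxMap_cmk g f l i a' b'⟩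
      · rintro ⟨x, hx⟩
        induction x using cases_cmk with
        | h a' b' =>
          rw [cxMap_cmk] at hx
          have h1 := congrArg (cfst _ i (i + 1) rfl) hx
          have h2 := congrArg (csnd _ i) hx
          rw [cfst_cmk, cfst_cmk] at h1
          rw [csnd_cmk, csnd_cmk] at h2
          dsimp only at h1 h2
          subst h1 h2
          rw [(cxMap_f_exact g h he l _).apply_apply_eq_zero a',
            (cxMap_f_exact g h he l _).apply_apply_eq_zero b']
          exact map_zero _

end Groth.Agent.Lib.Koszul.Stable.Cx
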