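import Groth.Agent.Lib.Koszul.Stable.KLim
import Groth.Agent.Lib.Koszul.Stable.Cech

/-!
# Colimit of Koszul cohomology = augmented Cech cohomology
-/

universe u

open CategoryTheory CategoryTheory.Limits

namespace Groth.Agent.Lib.Koszul.Stable.Iso

variable {A : Type u} [CommRing A] (fs : List A)

theorem exists_pow_of_mem {M : Type u} [AddCommGroup M] [Module A M] {x : M}
    (h : ∀ f ∈ fs, ∃ k : ℕ, f ^ k • x ∈ KLim.gamma fs M) : x ∈ KLim.gamma fs M := fun f hf => by
  obtain ⟨k, hk⟩ := h f hf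
  obtain ⟨k', hk'⟩ := hk f hf
  exact ⟨k' + k, by rw [pow_add, mul_smul, hk']⟩

variable {ι : Type u} (s : ι → A)

theorem mem_gamma_iff (hs : ∀ a, a ∈ fs ↔ ∃ i, s i = a) {M : Type u} [AddCommGroup M] [Module A M]
    (x : M) : x ∈ KLim.gamma fs M ↔ ∀ i, ∃ k : ℕ, s i ^ k • x = 0 :=
  ⟨fun h i => h (s i) ((hs _).2 ⟨i, rfl⟩), fun h f hf => by
    obtain ⟨i, rfl⟩ := (hs f).1 hf; exact h i⟩

/-- The colimit of Koszul cohomology is the cohomology of the augmented Cech complex. -/
theorem nonempty_equiv [Fintype ι] (hs : ∀ a, a ∈ fs ↔ ∃ i, s i = a) :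
    ∀ (p : ℕ) (M : Type u) [AddCommGroup M] [Module A M],
      Nonempty ((Cech.T M s).homology p ≃ₗ[A] CohIII.koszulHLim fs (ModuleCat.of A M) p)
  | 0, M, _, _ => by
    obtain ⟨e⟩ := Cech.nonempty_homology_zero M s (KLim.gamma fs M) (mem_gamma_iff fs s hs)
    exact ⟨e ≪≫ₗ (KLim.gammaEquiv fs (ModuleCat.of A M)).symm⟩
  | p + 1, M, _, _ => by
    let G := KLim.gamma fs M
    have hGK : ∀ x : G, x ∈ KLim.gamma fs G := fun x f hf => by
      obtain ⟨k, hk⟩ := x.2 f hf
      exact ⟨k, Subtype.ext hk⟩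
    have hGT : ∀ (x : G) (i : ι), ∃ k : ℕ, s i ^ k • x = 0 := fun x i =>
      (mem_gamma_iff fs s hs x).1 (hGK x) i
    -- remove the torsion
    obtain ⟨a⟩ := Cech.nonempty_equiv_of_left_vanish s G.subtype G.mkQ G.injective_subtype
      (LinearMap.exact_subtype_mkQ G) G.mkQ_surjective (p + 1)
      (Cech.subsingleton_of_torsion s hGT (Nat.succ_ne_zero _))
      (Cech.subsingleton_of_torsion s hGT (Nat.succ_ne_zero _))
    let S₁ : ShortComplex (ModuleCat.{u} A) := ShortComplex.mk (ModuleCat.ofHom G.subtype)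
      (ModuleCat.ofHom G.mkQ) (ModuleCat.hom_ext (LinearMap.exact_subtype_mkQ G).linearMap_comp_eq_zero)
    have hS₁ : S₁.ShortExact :=
      { exact := (ShortComplex.ShortExact.moduleCat_exact_iff_function_exact _).2
          (LinearMap.exact_subtype_mkQ G)
        mono_f := (ModuleCat.mono_iff_injective _).2 G.injective_subtype
        epi_g := (ModuleCat.epi_iff_surjective _).2 G.mkQ_surjective }
    obtain ⟨b⟩ := KLim.nonempty_equiv_of_left_vanish fs hS₁ (p + 1)
      (KLim.subsingleton_of_torsion fs hGK (Nat.succ_ne_zero _))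
      (KLim.subsingleton_of_torsion fs hGK (Nat.succ_ne_zero _))
    -- embed in the product of the localisations
    let ε : (M ⧸ G) →ₗ[A] ∀ i, Cech.L (s i) (M ⧸ G) := LinearMap.pi fun i => Cech.mk (s i) (M ⧸ G)
    have hε : Function.Injective ε := by
      rw [injective_iff_map_eq_zero]
      intro y hy
      obtain ⟨x, rfl⟩ := G.mkQ_surjective y
      refine (Submodule.Quotient.mk_eq_zero G).2 (exists_pow_of_mem fs fun f hf => ?_)
      obtain ⟨i, rfl⟩ := (hs f).1 hf
      obtain ⟨⟨_, k, rfl⟩, hk⟩ :=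
        (IsLocalizedModule.eq_zero_iff (Submonoid.powers (s i)) (Cech.mk (s i) (M ⧸ G))).1
          (congr_fun hy i)
      exact ⟨k, (Submodule.Quotient.mk_eq_zero G).1 hk⟩
    have hb : ∀ i, Function.Bijective (fun x : Cech.L (s i) (M ⧸ G) => s i • x) := fun i =>
      (Module.End.isUnit_iff _).1 (Cech.isUnit_self (s i))
    have hT : ∀ q, Subsingleton ((Cech.T (∀ i, Cech.L (s i) (M ⧸ G)) s).homology q) := fun q =>
      Cech.subsingleton_pi s _ q fun i => Cech.subsingleton_of_bijective s i (hb i) q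
    obtain ⟨c⟩ := Cech.nonempty_equiv_of_middle_vanish s ε (LinearMap.range ε).mkQ hε
      (LinearMap.exact_map_mkQ_range ε) (LinearMap.range ε).mkQ_surjective p hT
    let S₂ : ShortComplex (ModuleCat.{u} A) := ShortComplex.mk (ModuleCat.ofHom ε)
      (ModuleCat.ofHom (LinearMap.range ε).mkQ)
      (ModuleCat.hom_ext (LinearMap.exact_map_mkQ_range ε).linearMap_comp_eq_zero)
    have hS₂ : S₂.ShortExact :=
      { exact := (ShortComplex.ShortExact.moduleCat_exact_iff_function_exact _).2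
          (LinearMap.exact_map_mkQ_range ε)
        mono_f := (ModuleCat.mono_iff_injective _).2 hε
        epi_g := (ModuleCat.epi_iff_surjective _).2 (LinearMap.range ε).mkQ_surjective }
    obtain ⟨d⟩ := KLim.nonempty_equiv_of_middle_vanish fs hS₂ p fun q n =>
      KLim.subsingleton_level_pi (fun i => Cech.L (s i) (M ⧸ G)) _ _ fun i =>
        KLim.subsingleton_level_of_bijective _ (List.mem_map.2 ⟨s i, (hs _).2 ⟨i, rfl⟩, rfl⟩)
          ((Module.End.isUnit_iff (algebraMap A (Module.End A (Cech.L (s i) (M ⧸ G))) (s i ^ n))).1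
            (by rw [map_pow]; exact (Cech.isUnit_self (s i)).pow n)) _
    obtain ⟨e⟩ := nonempty_equiv hs p ((∀ i, Cech.L (s i) (M ⧸ G)) ⧸ LinearMap.range ε)
    exact ⟨a ≪≫ₗ c.symm ≪≫ₗ e ≪≫ₗ d ≪≫ₗ b.symm⟩

end Groth.Agent.Lib.Koszul.Stable.Iso
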