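import Groth.Agent.Lib.Koszul.Stable.Iso
import Groth.Agent.Lib.QCoh.Localizing
import Groth.Agent.Lib.Cech.Sections
import Groth.Agent.Lib.Cech.Compare
import Groth.Prelude.Def_ega3
import Mathlib.Algebra.Module.LocalizedModule.Away
import Mathlib.Algebra.Homology.ShortComplex.Ab

/-!
# Cech complexes of quasi-coherent modules for families of basic opens, algebraically
-/

universe u

open CategoryTheory CategoryTheory.Limits AlgebraicGeometry TopologicalSpace Opposite

namespace Groth.Agent.Lib.Koszul.Stable.Sch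

open Groth.Agent.Lib.QCoh
open Groth.Agent.Lib.FlatCx

variable {X : Scheme.{u}} (F : X.Modules)

/-- Global sections. -/
abbrev Top : Type u := (F.val.obj (op (⊤ : X.Opens)) : Type u)

/-- Sections, as a module over the global functions. -/
def Sec (W : X.Opens) : Type u := Γ(F, W)

noncomputable instance (W : X.Opens) : AddCommGroup (Sec F W) :=
  inferInstanceAs (AddCommGroup Γ(F, W))

noncomputable instance (W : X.Opens) : Module Γ(X, ⊤) (Sec F W) :=
  Module.compHom Γ(F, W) (Localizing.resR (X := X) (le_top : W ≤ ⊤))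

/-- Restriction. -/
noncomputable def resL {V W : X.Opens} (h : W ≤ V) : Sec F V →ₗ[Γ(X, ⊤)] Sec F W where
  toFun := Localizing.res F h
  map_add' := map_add _
  map_smul' a m := by
    show Localizing.res F h (Localizing.resR (le_top : V ≤ ⊤) a • (show Γ(F, V) from m)) =
      Localizing.resR (le_top : W ≤ ⊤) a • Localizing.res F h m
    rw [Localizing.res_smul, Localizing.resR_resR]

/-- Restriction from the whole space. -/
noncomputable def rl (W : X.Opens) : Top F →ₗ[Γ(X, ⊤)] Sec F W where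
  toFun := Localizing.res F (le_top : W ≤ ⊤)
  map_add' := map_add _
  map_smul' a m := by
    show Localizing.res F (le_top : W ≤ ⊤) (a • (show Γ(F, ⊤) from m)) = _
    rw [Localizing.res_smul]
    rfl

theorem resL_rl {V W : X.Opens} (h : W ≤ V) (m : Top F) : resL F h (rl F V m) = rl F W m :=
  Localizing.res_res (M := F) (le_top : V ≤ ⊤) h m

theorem resL_resL {U V W : X.Opens} (h : V ≤ U) (h' : W ≤ V) (m : Sec F U) :
    resL F h' (resL F h m) = resL F (h'.trans h) m :=
  Localizing.res_res (M := F) h h' m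

theorem bijective_smul {R N : Type u} [CommRing R] [AddCommGroup N] [Module R N] {r : R}
    (h : IsUnit r) : Function.Bijective (fun n : N => r • n) := by
  obtain ⟨v, rfl⟩ := h
  exact ⟨fun m n e => by simpa [smul_smul] using congrArg (fun x : N => ((v⁻¹ : Rˣ) : R) • x) e,
    fun n => ⟨((v⁻¹ : Rˣ) : R) • n, by simp [smul_smul]⟩⟩

theorem isUnit_sec {a : Γ(X, ⊤)} {W : X.Opens} (hW : W ≤ X.basicOpen a) :
    IsUnit (algebraMap Γ(X, ⊤) (Module.End Γ(X, ⊤) (Sec F W)) a) := by
  have h : IsUnit (Localizing.resR (le_top : W ≤ ⊤) a) := by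
    rw [← Localizing.resR_resR (X.basicOpen_le a) hW a]
    exact (RingedSpace.isUnit_res_basicOpen _ a).map _
  exact (Module.End.isUnit_iff _).2 (bijective_smul (N := Γ(F, W)) h)

theorem isLocalizedModule [CompactSpace X] [QuasiSeparatedSpace X] [F.IsQuasicoherent]
    {a : Γ(X, ⊤)} {W : X.Opens} (hW : W = X.basicOpen a) :
    IsLocalizedModule (Submonoid.powers a) (rl F W) := by
  have hL := Localizing.localizes_of_qcqs F (U := ⊤) (by simpa using isCompact_univ)
    (by simpa using (isQuasiSeparated_univ : IsQuasiSeparated (Set.univ : Set X))) a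
  refine IsLocalizedModule.Away.mk_of_addCommGroup (isUnit_sec F hW.le) (fun y => ?_) fun x hx => ?_
  · obtain ⟨n, t, ht⟩ := hL.ext'.exists_of_eq hW le_top y
    refine ⟨n, t, ?_⟩
    show Localizing.resR (le_top : W ≤ ⊤) (a ^ n) • (show Γ(F, W) from y) = Localizing.res F le_top t
    rw [map_pow, ht]
  · obtain ⟨n, hn⟩ := hL.sep.exists_of_eq hW le_top x hx
    exact ⟨n, hn⟩

theorem basicOpen_prod {q : ℕ} (f : Fin (q + 1) → Γ(X, ⊤)) :
    X.basicOpen (∏ j, f j) = ⨅ j, X.basicOpen (f j) := by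
  induction q with
  | zero => simp
  | succ q ih =>
    rw [Fin.prod_univ_succ, Scheme.basicOpen_mul, ih]
    apply TopologicalSpace.Opens.ext
    simp only [TopologicalSpace.Opens.coe_inf, TopologicalSpace.Opens.coe_iInf]
    ext x
    simp [Fin.forall_fin_succ]

variable {Y : TopCat.{u}} {ι : Type u} (s : ι → Γ(X, ⊤)) (V : ι → Opens Y)
  (P : (Opens Y)ᵒᵖ ⥤ AddCommGrpCat.{u}) (J : Opens Y → X.Opens)

/-- The data identifying a presheaf on `Y` with sections of `F`. -/
structure Model where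
  mono : Monotone J
  α : ∀ W, P.obj (op W) ≃+ Sec F (J W)
  α_res : ∀ {W W' : Opens Y} (h : W ≤ W') (x : P.obj (op W')),
    α W (Cech.Complex.res P h x) = resL F (mono h) (α W' x)
  inter_eq : ∀ {q : ℕ} (t : Fin (q + 1) → ι), J (Cech.Complex.inter V t) = X.basicOpen (∏ j, s (t j))

variable {F s V P J}
variable [CompactSpace X] [QuasiSeparatedSpace X] [F.IsQuasicoherent]

/-- A localisation is the sections. -/
noncomputable def eW (D : Model F s V P J) {q : ℕ} (t : Fin (q + 1) → ι) :
    Cech.L (Cech.pr s t) (Top F) ≃ₗ[Γ(X, ⊤)] Sec F (J (Cech.Complex.inter V t)) :=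
  have := isLocalizedModule F (D.inter_eq t)
  IsLocalizedModule.linearEquiv (Submonoid.powers (Cech.pr s t)) (Cech.mk (Cech.pr s t) (Top F))
    (rl F (J (Cech.Complex.inter V t)))

theorem eW_mk (D : Model F s V P J) {q : ℕ} (t : Fin (q + 1) → ι) (m : Top F) :
    eW D t (Cech.mk (Cech.pr s t) (Top F) m) = rl F _ m :=
  have := isLocalizedModule F (D.inter_eq t)
  IsLocalizedModule.linearEquiv_apply _ _ _ m

theorem eW_ρ (D : Model F s V P J) {p q : ℕ} (t : Fin (q + 1) → ι) (u : Fin (p + 1) → ι)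
    (h : IsUnit (algebraMap Γ(X, ⊤) (Module.End Γ(X, ⊤) (Cech.L (Cech.pr s t) (Top F))) (Cech.pr s u)))
    (hle : Cech.Complex.inter V t ≤ Cech.Complex.inter V u) (x : Cech.L (Cech.pr s u) (Top F)) :
    eW D t (Cech.ρ _ _ h x) = resL F (D.mono hle) (eW D u x) := by
  have hu := isUnit_sec F (W := J (Cech.Complex.inter V t))
    ((D.mono hle).trans (D.inter_eq u).le)
  refine LinearMap.congr_fun (IsLocalizedModule.ext (Submonoid.powers (Cech.pr s u))
    (Cech.mk (Cech.pr s u) (Top F)) (Cech.isUnit_powers hu)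
    (j := (eW D t).toLinearMap ∘ₗ Cech.ρ _ _ h)
    (k := resL F (D.mono hle) ∘ₗ (eW D u).toLinearMap) ?_) x
  refine LinearMap.ext fun m => ?_
  show eW D t (Cech.ρ _ _ h (Cech.mk _ _ m)) = resL F _ (eW D u (Cech.mk _ _ m))
  rw [Cech.ρ_mk, eW_mk, eW_mk, resL_rl]

/-- Algebraic cochains are the cochains of the presheaf. -/
noncomputable def Θ (D : Model F s V P J) (q : ℕ) :
    Cech.Cochain (Top F) s (q + 1) ≃+ Cech.Complex.Cochain V P q :=
  AddEquiv.piCongrRight fun t => (eW D t).toAddEquiv.trans (D.α _).symm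

theorem Θ_d (D : Model F s V P J) (q : ℕ) (c : Cech.Cochain (Top F) s (q + 1)) :
    Θ D (q + 1) (Cech.dT (Top F) s (q + 1) c) = Cech.Complex.dC V P q (Θ D q c) := by
  funext t
  apply (D.α _).injective
  show D.α _ ((D.α _).symm (eW D t (Cech.dT (Top F) s (q + 1) c t))) = _
  rw [AddEquiv.apply_symm_apply, Cech.dT_apply, Cech.Complex.dC_apply, map_sum, map_sum]
  refine Finset.sum_congr rfl fun j _ => ?_
  rw [map_smul, map_zsmul, eW_ρ D t (t ∘ j.succAbove) _ (Cech.Complex.inter_le_face V t j), D.α_res,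
    ← Int.cast_smul_eq_zsmul Γ(X, ⊤)]
  refine congrArg₂ _ (by push_cast; rfl) (congrArg _ ?_)
  exact ((D.α _).apply_symm_apply _).symm

/-- Cocycles of the algebraic complex. -/
noncomputable abbrev Z (q : ℕ) : Submodule Γ(X, ⊤) (Cech.Cochain (Top F) s q) :=
  LinearMap.ker ((Cech.T (Top F) s).d q (q + 1)).hom

theorem dC_Θ (D : Model F s V P J) (q : ℕ) (z : Z (F := F) (s := s) (q + 1)) :
    Cech.Complex.dC V P q (Θ D q z.1) = 0 := by
  rw [← Θ_d, show Cech.dT (Top F) s (q + 1) z.1 = 0 from (Cech.T_d_apply s _ _).symm.trans z.2,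
    map_zero]

/-- Positive degree Cech cohomology. -/
theorem nonempty_cech_equiv (D : Model F s V P J) (q : ℕ) :
    Nonempty ((Cech.Complex.cx V P).homology (q + 1) ≃+ (Cech.T (Top F) s).homology (q + 2)) := by
  let S := (Cech.Complex.cx V P).sc' q (q + 1) (q + 2)
  let toKer : Z (F := F) (s := s) (q + 2) →+ AddMonoidHom.ker S.g.hom :=
    AddMonoidHom.mk' (fun z => ⟨(Cech.Complex.equiv V P (q + 1)).symm (Θ D (q + 1) z.1), by
      apply (Cech.Complex.equiv V P (q + 2)).injective
      refine Eq.trans ?_ (map_zero (Cech.Complex.equiv V P (q + 2))).symm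
      refine (Cech.Complex.equiv_d V P (q + 1) _).trans ?_
      rw [AddEquiv.apply_symm_apply]
      exact dC_Θ D (q + 1) z⟩)
      fun z z' => Subtype.ext (by simp; rfl)
  have htk : Function.Surjective toKer := by
    rintro ⟨x, hx⟩
    obtain ⟨c, hc⟩ := (Θ D (q + 1)).surjective (Cech.Complex.equiv V P (q + 1) x)
    refine ⟨⟨c, ?_⟩, Subtype.ext ?_⟩
    · refine (Cech.T_d_apply s _ _).trans ((Θ D (q + 2)).injective ?_)
      refine Eq.trans ?_ (map_zero (Θ D (q + 2))).symm
      refine (Θ_d D (q + 1) c).trans ?_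
      rw [hc]
      refine (Cech.Complex.equiv_d V P (q + 1) x).symm.trans ?_
      exact (congrArg (Cech.Complex.equiv V P (q + 2)) hx).trans (map_zero _)
    · show (Cech.Complex.equiv V P (q + 1)).symm (Θ D (q + 1) c) = x
      rw [hc]
      exact AddEquiv.symm_apply_apply _ x
  let ψ : Z (F := F) (s := s) (q + 2) →+ ((AddMonoidHom.ker S.g.hom) ⧸ AddMonoidHom.range S.abToCycles) :=
    (QuotientAddGroup.mk' _).comp toKer
  refine ⟨(((Cech.Complex.cx V P).homologyIsoSc' q (q + 1) (q + 2) (by simp) (by simp)) ≪≫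
    S.abHomologyIso).addCommGroupIsoToAddEquiv.trans
      (Cech.Compare.equivOfKerEq ψ
        ((Elem.cls (K := Cech.T (Top F) s) (Cech.next_nat (q + 2))).toAddMonoidHom)
        ((QuotientAddGroup.mk'_surjective _).comp htk)
        (fun h => Elem.cls_surjective (K := Cech.T (Top F) s) (Cech.next_nat (q + 2)) h) ?_)⟩
  ext z
  refine AddMonoidHom.mem_ker.trans ?_
  refine Iff.trans ?_ ((Elem.cls_eq_zero_iff (K := Cech.T (Top F) s) (Cech.prev_nat (q + 1))
    (Cech.next_nat (q + 2)) z).symm.trans Iff.rfl)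
  show (QuotientAddGroup.mk (toKer z) : _ ⧸ AddMonoidHom.range S.abToCycles) = 0 ↔ _
  rw [QuotientAddGroup.eq_zero_iff]
  constructor
  · rintro ⟨b, hb⟩
    refine ⟨(Θ D q).symm (Cech.Complex.equiv V P q b), ?_⟩
    refine (Cech.T_d_apply s _ _).trans ((Θ D (q + 1)).injective ?_)
    rw [Θ_d, AddEquiv.apply_symm_apply]
    refine (Cech.Complex.equiv_d V P q b).symm.trans ?_
    exact (congrArg (Cech.Complex.equiv V P (q + 1)) (congrArg Subtype.val hb)).trans
      (AddEquiv.apply_symm_apply _ _)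
  · rintro ⟨b, hb⟩
    refine ⟨(Cech.Complex.equiv V P q).symm (Θ D q b), Subtype.ext ?_⟩
    apply (Cech.Complex.equiv V P (q + 1)).injective
    refine (Cech.Complex.equiv_d V P q _).trans ?_
    rw [AddEquiv.apply_symm_apply]
    refine (Θ_d D q b).symm.trans ?_
    refine (congrArg (Θ D (q + 1)) ((Cech.T_d_apply s _ b).symm.trans hb)).trans ?_
    exact ((Cech.Complex.equiv V P (q + 1)).apply_symm_apply _).symm

omit [CompactSpace X] [QuasiSeparatedSpace X] [F.IsQuasicoherent] in
theorem range_ulift_get {α : Type u} (l : List α) (a : α) :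
    a ∈ l ↔ ∃ i : ULift.{u} (Fin l.length), l.get i.down = a :=
  List.mem_iff_get.trans ⟨fun ⟨i, h⟩ => ⟨⟨i⟩, h⟩, fun ⟨i, h⟩ => ⟨i.down, h⟩⟩

/-- Sections on `X` itself. -/
noncomputable def model (s : ι → Γ(X, ⊤)) :
    Model F s (fun i => X.basicOpen (s i)) F.presheaf id where
  mono := monotone_id
  α _ := AddEquiv.refl _
  α_res _ _ := rfl
  inter_eq t := (basicOpen_prod fun j => s (t j)).symm

/-- Sections on an open subscheme. -/
noncomputable def modelOn (U : X.Opens) (s : ι → Γ(X, ⊤)) (hU : ∀ i, X.basicOpen (s i) ≤ U) :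
    Model F s (fun i => U.ι ⁻¹ᵁ X.basicOpen (s i)) (F.restrict U.ι).presheaf (fun W => U.ι ''ᵁ W) where
  mono _ _ h := U.ι.image_mono h
  α _ := AddEquiv.refl _
  α_res _ _ := rfl
  inter_eq {q} t := by
    have e : Cech.Complex.inter (fun i => U.ι ⁻¹ᵁ X.basicOpen (s i)) t =
        U.ι ⁻¹ᵁ X.basicOpen (∏ j, s (t j)) := by
      rw [basicOpen_prod]
      apply TopologicalSpace.Opens.ext
      simp only [Cech.Complex.inter, TopologicalSpace.Opens.coe_iInf, Scheme.Hom.coe_preimage,
        Set.preimage_iInter]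
    rw [e, Scheme.Hom.image_preimage_eq_opensRange_inf, Scheme.Opens.opensRange_ι, inf_eq_right]
    rw [basicOpen_prod]
    exact (iInf_le _ 0).trans (hU _)

end Groth.Agent.Lib.Koszul.Stable.Sch
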