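import Groth.Agent.Lib.Koszul.Stable.Scheme

/-!
# Low degrees: sections over a union of basic opens; the comparison theorems
-/

universe u

open CategoryTheory CategoryTheory.Limits AlgebraicGeometry TopologicalSpace Opposite

namespace Groth.Agent.Lib.Koszul.Stable.SchLow

open Groth.Agent.Lib.QCoh Groth.Agent.Lib.FlatCx
open Groth.Agent.Lib.Cech (Complex.inter)

variable {X : Scheme.{u}} (F : X.Modules) [CompactSpace X] [QuasiSeparatedSpace X] [F.IsQuasicoherent]
variable {ι : Type u} (s : ι → Γ(X, ⊤))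

/-- The union. -/
abbrev union : X.Opens := ⨆ i, X.basicOpen (s i)

/-- Restriction to the union. -/
noncomputable abbrev resU (W : X.Opens) : (Coh.toAb F).obj.obj (op (⊤ : X.Opens)) →+ (Coh.toAb F).obj.obj (op W) :=
  ((Coh.toAb F).obj.map (homOfLE (le_top : W ≤ ⊤)).op).hom

/-- A global section as an algebraic `0`-cochain. -/
noncomputable abbrev cst (m : Sch.Top F) : Cech.Cochain (Sch.Top F) s 0 := fun t => Cech.mk (Cech.pr s t) _ m

theorem dT_cst (m : Sch.Top F) :
    Cech.dT (Sch.Top F) s 0 (cst F s m) = fun t => Cech.mk (Cech.pr s t) _ m := by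
  funext t
  rw [Cech.dT_apply, Fin.sum_univ_one, Fin.val_zero, pow_zero, one_smul, Cech.ρ_mk]

/-- Cocycles from sections over the union. -/
noncomputable def toCochain :
    (Coh.toAb F).obj.obj (op (union s)) →+ Cech.Cochain (Sch.Top F) s 1 :=
  (Sch.Θ (Sch.model (F := F) s) 0).symm.toAddMonoidHom.comp
    (Lib.Cech.Sections.aug (fun i => X.basicOpen (s i)) (Coh.toAb F).obj (fun i => le_iSup (fun i => X.basicOpen (s i)) i))

theorem toCochain_injective : Function.Injective (toCochain F s) :=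
  (Sch.Θ (Sch.model (F := F) s) 0).symm.injective.comp
    (Lib.Cech.Sections.aug_injective (fun i => X.basicOpen (s i)) (Coh.toAb F) rfl)

theorem Θ_toCochain (g : (Coh.toAb F).obj.obj (op (union s))) :
    Sch.Θ (Sch.model (F := F) s) 0 (toCochain F s g) =
      Lib.Cech.Sections.aug (fun i => X.basicOpen (s i)) (Coh.toAb F).obj
        (fun i => le_iSup (fun i => X.basicOpen (s i)) i) g :=
  (Sch.Θ (Sch.model (F := F) s) 0).apply_symm_apply _

theorem toCochain_res (m : Sch.Top F) :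
    toCochain F s (resU F (union s) m) = fun t => Cech.mk (Cech.pr s t) _ m := by
  apply (Sch.Θ (Sch.model (F := F) s) 0).injective
  refine (Θ_toCochain F s _).trans ?_
  funext t
  show Localizing.res F _ (Localizing.res F (le_top : union s ≤ ⊤) m) =
    Sch.eW (Sch.model (F := F) s) t (Cech.mk (Cech.pr s t) _ m)
  rw [Sch.eW_mk]
  exact Sch.resL_rl F _ m

theorem dT_toCochain (g : (Coh.toAb F).obj.obj (op (union s))) :
    Cech.dT (Sch.Top F) s 1 (toCochain F s g) = 0 := by
  apply (Sch.Θ (Sch.model (F := F) s) 1).injective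
  refine (Sch.Θ_d (Sch.model (F := F) s) 0 _).trans (Eq.trans ?_ (map_zero _).symm)
  rw [Θ_toCochain]
  exact Lib.Cech.Sections.dC_aug _ _ _ g

/-- Sections over the union to `H^1`. -/
noncomputable def toH1 :
    (Coh.toAb F).obj.obj (op (union s)) →+ (Cech.T (Sch.Top F) s).homology 1 :=
  (Elem.cls (K := Cech.T (Sch.Top F) s) (Cech.next_nat 1)).toAddMonoidHom.comp
    (AddMonoidHom.mk' (fun g => ⟨toCochain F s g,
      (Cech.T_d_apply s 1 _).trans (dT_toCochain F s g)⟩)
      fun g g' => Subtype.ext (map_add _ g g'))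

theorem toH1_surjective : Function.Surjective (toH1 F s) := by
  intro h
  obtain ⟨⟨c, hc⟩, rfl⟩ := Elem.cls_surjective (K := Cech.T (Sch.Top F) s) (Cech.next_nat 1) h
  obtain ⟨g, hg⟩ := Lib.Cech.Sections.exists_aug_eq (fun i => X.basicOpen (s i)) (Coh.toAb F)
    (W := union s) rfl (Sch.Θ (Sch.model (F := F) s) 0 c) (Sch.dC_Θ _ 0 ⟨c, hc⟩)
  refine ⟨g, congrArg (Elem.cls (K := Cech.T (Sch.Top F) s) (Cech.next_nat 1)) (Subtype.ext ?_)⟩
  apply (Sch.Θ (Sch.model (F := F) s) 0).injective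
  exact (Θ_toCochain F s g).trans hg

theorem ker_toH1 : (toH1 F s).ker = (resU F (union s)).range := by
  ext g
  refine AddMonoidHom.mem_ker.trans ((Elem.cls_eq_zero_iff (K := Cech.T (Sch.Top F) s)
    (Cech.prev_nat 0) (Cech.next_nat 1) _).trans ?_)
  constructor
  · rintro ⟨b, hb⟩
    obtain ⟨m, rfl⟩ := (Cech.bijective_const (Sch.Top F) s).2 b
    refine ⟨m, toCochain_injective F s ?_⟩
    exact (toCochain_res F s m).trans ((dT_cst F s m).symm.trans
      ((Cech.T_d_apply s 0 _).symm.trans hb))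
  · rintro ⟨m, rfl⟩
    exact ⟨cst F s m, (Cech.T_d_apply s 0 _).trans ((dT_cst F s m).trans (toCochain_res F s m).symm)⟩

/-- The cokernel of restriction. -/
theorem nonempty_coker_equiv :
    Nonempty ((Coh.toAb F).obj.obj (op (union s)) ⧸ (resU F (union s)).range ≃+
      (Cech.T (Sch.Top F) s).homology 1) :=
  ⟨(QuotientAddGroup.quotientAddEquivOfEq (ker_toH1 F s).symm).trans
    (QuotientAddGroup.quotientKerEquivOfSurjective _ (toH1_surjective F s))⟩

/-- The kernel of restriction. -/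
theorem mem_ker_res_iff (m : Sch.Top F) :
    resU F (union s) m = 0 ↔ ∀ i, ∃ k : ℕ, s i ^ k • m = 0 := by
  rw [← Cech.mem_ker_zero_iff s m Fin.elim0]
  constructor
  · intro h
    refine (dT_cst F s m).trans ((toCochain_res F s m).symm.trans ?_)
    exact (congrArg (toCochain F s) h).trans (map_zero _)
  · intro h
    apply toCochain_injective F s
    refine ((toCochain_res F s m).trans ((dT_cst F s m).symm.trans h)).trans ?_
    exact (map_zero (toCochain F s)).symm

variable (fs : List Γ(X, ⊤))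

/-- The index of a list. -/
abbrev idx : Type u := ULift.{u} (Fin fs.length)

/-- The members of a list. -/
abbrev mem' : idx fs → Γ(X, ⊤) := fun i => fs.get i.down

omit [CompactSpace X] [QuasiSeparatedSpace X] in
theorem union_eq : union (mem' fs) = ⨆ i : Fin fs.length, X.basicOpen (fs.get i) :=
  Equiv.ulift.iSup_congr fun _ => rfl

/-- The kernel and cokernel of restriction are the Koszul colimits in degrees `0` and `1`. -/
theorem nonempty_ker_coker (U : X.Opens) (hU : U = union (mem' fs)) :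
    Nonempty ((resU F U).ker ≃+ CohIII.koszulHLim fs (ModuleCat.of Γ(X, ⊤) (Sch.Top F)) 0) ∧
    Nonempty ((Coh.toAb F).obj.obj (op U) ⧸ (resU F U).range ≃+
      CohIII.koszulHLim fs (ModuleCat.of Γ(X, ⊤) (Sch.Top F)) 1) := by
  subst hU
  refine ⟨?_, ?_⟩
  · have h : ∀ m : Sch.Top F, m ∈ (resU F (union (mem' fs))).ker ↔ m ∈ KLim.gamma fs (Sch.Top F) :=
      fun m => AddMonoidHom.mem_ker.trans ((mem_ker_res_iff F (mem' fs) m).trans
        (Iso.mem_gamma_iff fs (mem' fs) (Sch.range_ulift_get fs) m).symm)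
    let e : (resU F (union (mem' fs))).ker ≃+ KLim.gamma fs (Sch.Top F) :=
      { toFun := fun m => ⟨m.1, (h m.1).1 m.2⟩
        invFun := fun m => ⟨m.1, (h m.1).2 m.2⟩
        left_inv := fun _ => rfl
        right_inv := fun _ => rfl
        map_add' := fun _ _ => rfl }
    exact ⟨e.trans (KLim.gammaEquiv fs (ModuleCat.of Γ(X, ⊤) (Sch.Top F))).symm.toAddEquiv⟩
  · obtain ⟨e⟩ := nonempty_coker_equiv F (mem' fs)
    obtain ⟨e'⟩ := Iso.nonempty_equiv fs (mem' fs) (Sch.range_ulift_get fs) 1 (Sch.Top F)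
    exact ⟨e.trans e'.toAddEquiv⟩

/-- Cech cohomology is the Koszul colimit. -/
theorem nonempty_cech {Y : TopCat.{u}} {V : idx fs → Opens Y} {P : (Opens Y)ᵒᵖ ⥤ AddCommGrpCat.{u}}
    {J : Opens Y → X.Opens} (D : Sch.Model F (mem' fs) V P J) (p : ℕ) (hp : 1 ≤ p) :
    Nonempty ((Lib.Cech.Complex.cx V P).homology p ≃+
      CohIII.koszulHLim fs (ModuleCat.of Γ(X, ⊤) (Sch.Top F)) (p + 1)) := by
  obtain ⟨q, rfl⟩ : ∃ q, p = q + 1 := ⟨p - 1, by omega⟩
  obtain ⟨e⟩ := Sch.nonempty_cech_equiv D q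
  obtain ⟨e'⟩ := Iso.nonempty_equiv fs (mem' fs) (Sch.range_ulift_get fs) (q + 2) (Sch.Top F)
  exact ⟨e.trans e'.toAddEquiv⟩

end Groth.Agent.Lib.Koszul.Stable.SchLow
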